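import Cfsg.Agent.StdL.LoS
import Cfsg.Agent.StdL.OutA

/-! The Sylow facts `WfS.Loc` for `L = r(SL)`, first part.  `T = P ⊓ L = r(U)`, `W = Vg r e`,
`W' = Vg (du r) ε`, `Z = Zr r e ε`. -/

set_option autoImplicit false
set_option linter.unusedSectionVars false

namespace Cfsg.Agent.StdL

open Matrix Subgroup Cfsg.Agent.LnT Cfsg.Agent.PLocal.Amb Cfsg.Agent.WfS
open scoped commutatorElement

variable {F ι G : Type*} [Field F] [Fintype ι] [DecidableEq ι] [Group G] [CharP F 2] [Finite F]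
  [Finite G] {r : SpecialLinearGroup ι F →* G} {P : Subgroup G}
  {U : Subgroup (SpecialLinearGroup ι F)} {e f ε η φ : ι → F} {p x y : G}

theorem exists_lo (h : Rp r) (hP : IsPGroup 2 P) (nL : P ≤ 𝐍[r.range])
    (hs : IsSyl 2 (P ⊓ r.range) r.range) : ∃ U e f ε η, Lo r P U e f ε η := by
  obtain ⟨U, u1, u2, u3⟩ := h.lift_sub hs.pgrp hs.le
  obtain ⟨e, f, ε, η, g⟩ := exists_fg h.three (U := U) ⟨le_top, u1, fun R hR l _ => by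
    refine (eq_of_le_of_card_ge l ?_).ge
    rw [u3, ← h.card_map hR]
    exact card_le_of_le (hs.max _ (hR.map r) (u2 ▸ map_mono l) (map_le_range r R))⟩
  exact ⟨U, e, f, ε, η, { h, g with pg := hP, nL := nL, map := u2 }⟩

theorem lo_z2 {T B : Subgroup G} (hT : IsPGroup 2 T) (hB : B ≤ T) (hn : T ≤ 𝐍[B]) (h : ¬ B ≤ 𝐂[T]) :
    ∃ x ∈ B, x ∉ 𝐂[T] ∧ ∀ u ∈ T, x * u * x⁻¹ * u⁻¹ ∈ 𝐂[T] := by
  have := normal_subgroupOf' hn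
  have := Subgroup.Normal.map this (QuotientGroup.mk' (center T)) (QuotientGroup.mk'_surjective _)
  have q := hT.to_quotient (center T)
  have c : ∀ x : T, QuotientGroup.mk' (center T) x = 1 ↔ x.1 ∈ 𝐂[T] := fun x =>
    (QuotientGroup.eq_one_iff _).trans ⟨fun h v hv => congrArg Subtype.val (mem_center_iff.1 h ⟨v, hv⟩),
      fun h => mem_center_iff.2 fun u => Subtype.ext (h u u.2)⟩
  obtain ⟨⟨_, ⟨x, hx, rfl⟩, x1⟩, x2⟩ := (ne_bot_iff_exists_ne_one).1 (inf_centralizer_ne_bot (q.to_subgroup ⊤)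
    (q.to_subgroup ((B.subgroupOf T).map (QuotientGroup.mk' (center T)))) le_normalizer_of_normal
    fun e => h fun b hb => (c ⟨b, hB hb⟩).1 ((eq_bot_iff_forall _).1 e _ (mem_map_of_mem _ hb)))
  refine ⟨x, hx, fun e => x2 (Subtype.ext ((c x).2 e)), fun u hu => (c (x * ⟨u, hu⟩ * x⁻¹ * ⟨u, hu⟩⁻¹)).1 ?_⟩
  rw [map_mul, map_mul, map_mul, ← x1 _ (mem_top _), map_inv, map_inv]
  group

namespace Lo
variable (h : Lo r P U e f ε η)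
include h

theorem du : Lo (du r) P (U.map (tr : SpecialLinearGroup ι F ≃* _).toMonoidHom) ε η e f :=
  { h.toRp.du, h.toFg.du with
    pg := h.pg
    nL := (range_du r).symm ▸ h.nL
    map := by rw [Subgroup.map_map, range_du, ← h.map]; exact congrArg (U.map ·) (du_du r) }

/-- `T` is Sylow in `L` (`IsSyl.map`) -/
theorem sylT : IsSyl 2 (P ⊓ r.range) r.range := by
  have := h.syl.map r
  rwa [h.map, ← MonoidHom.range_eq_map] at this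

theorem memT {g : SpecialLinearGroup ι F} (hg : g ∈ U) : r g ∈ P ⊓ r.range := h.map ▸ mem_map_of_mem r hg

theorem ofT (hx : x ∈ P ⊓ r.range) : ∃ g ∈ U, r g = x := by rwa [← h.map] at hx

theorem WT : Vg r e ≤ P ⊓ r.range := fun _ hx => by
  obtain ⟨φ, a, rfl⟩ := mem_Vg.1 hx
  exact h.memT (h.toFg.tvW a)

theorem WT' : Vg (StdL.du r) ε ≤ P ⊓ r.range := range_du r ▸ h.du.WT

theorem cε (c : F) : (c • ε) ⬝ᵥ e = 0 := by rw [smul_dotProduct, h.toFg.εe, smul_zero]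

/-- `Sy.smul_of_mem` or `Rp.eq_of_sq`, `tv_eq_iff` -/
theorem mem_Z : x ∈ Zr r e ε ↔ ∃ c : F, r (tv e (c • ε)) = x := by
  refine ⟨fun ⟨a, b⟩ => ?_, fun ⟨c, a⟩ => ⟨mem_Vg.2 ⟨_, h.cε c, a⟩, mem_Vg'.2 ⟨c • e, ?_, ?_⟩⟩⟩
  · obtain ⟨u, c, rfl⟩ := mem_Vg'.1 b
    obtain ⟨d, rfl⟩ := Sy.smul_of_mem h.toRp c h.ε0 a
    exact ⟨d, by rw [tv_smul _ h.toFg.εe]⟩
  · rw [dotProduct_smul, h.toFg.εe, smul_zero]
  · rw [tv_smul _ h.toFg.εe, a]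

theorem rinj {ψ : ι → F} (h1 : φ ⬝ᵥ e = 0) (h2 : ψ ⬝ᵥ e = 0) (a : r (tv e φ) = r (tv e ψ)) : φ = ψ :=
  tv_inj h.e0 h1 h2 (h.toRp.eq_of_sq (tv_sq _ _) (tv_sq _ _) a)

theorem tv_Z (h1 : φ ⬝ᵥ e = 0) : r (tv e φ) ∈ Zr r e ε ↔ ∃ c : F, φ = c • ε :=
  h.mem_Z.trans ⟨fun ⟨c, a⟩ => ⟨c, h.rinj h1 (h.cε c) a.symm⟩, fun ⟨c, a⟩ => ⟨c, by rw [a]⟩⟩

theorem card_Z : Nat.card (Zr r e ε) = Nat.card F := by
  refine (Nat.card_eq_of_bijective (fun c : F => (⟨r (tv e (c • ε)), h.mem_Z.2 ⟨c, rfl⟩⟩ : Zr r e ε))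
    ⟨fun a b k => smul_left_injective F h.ε0 (h.rinj (h.cε a) (h.cε b) (congrArg Subtype.val k)),
      fun x => ?_⟩).symm
  obtain ⟨c, a⟩ := h.mem_Z.1 x.2
  exact ⟨c, Subtype.ext a⟩

theorem cV (hx : x ∈ P) (hc : x ∈ 𝐂[Vg r e]) : ∃ v ∈ Vg r e, v * x ∈ 𝐂[r.range] := by
  obtain ⟨v, a, b⟩ := h.toRp.cent_V (h.nL hx) h.e0 fun v hv => (hc v hv).symm
  exact ⟨v, a, by rintro _ ⟨y, rfl⟩; exact (b y).symm⟩

theorem cW (hx : x ∈ P ⊓ r.range) (hc : x ∈ 𝐂[Vg r e]) : x ∈ Vg r e := by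
  obtain ⟨v, a, b⟩ := h.cV hx.1 hc
  have m := mul_mem (h.WT a) hx
  obtain ⟨g, k⟩ := m.2
  have := Lyons.eq_one_of_odd h.pg m.1 (k ▸ h.toRp.odd_of_cent fun y => by rw [k]; exact (b _ ⟨y, rfl⟩).symm)
  rw [eq_inv_of_mul_eq_one_right this]
  exact inv_mem a

theorem cW' (hx : x ∈ P ⊓ r.range) (hc : x ∈ 𝐂[Vg (StdL.du r) ε]) : x ∈ Vg (StdL.du r) ε :=
  h.du.cW (by rwa [range_du]) hc

/-- `cW` and its dual; `comm_tv` with `fe`, `fε` -/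
theorem Z_eq : Zt (P ⊓ r.range) = Zr r e ε := by
  refine le_antisymm (fun x hx => ⟨h.cW hx.1 (centralizer_anti h.WT hx.2),
    h.cW' hx.1 (centralizer_anti h.WT' hx.2)⟩) fun x hx => ⟨h.WT hx.1, fun t ht => ?_⟩
  obtain ⟨c, rfl⟩ := h.mem_Z.1 hx
  obtain ⟨g, a, rfl⟩ := h.ofT ht
  rw [← map_mul, ← map_mul, comm_tv (h.cε c) (h.fe g a) (by rw [smul_vecMul, h.fε g a])]

theorem nT : P ≤ 𝐍[P ⊓ r.range] := le_normalizer_inf le_normalizer h.nL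

theorem nZ : P ≤ 𝐍[Zr r e ε] := h.Z_eq ▸ le_normalizer_inf h.nT (le_normalizer_centralizer h.nT)

theorem ZC : Zr r e ε ≤ 𝐂[P ⊓ r.range] := h.Z_eq ▸ inf_le_right

theorem toZ (hx : x ∈ P ⊓ r.range) (hc : x ∈ 𝐂[P ⊓ r.range]) : x ∈ Zr r e ε := h.Z_eq ▸ ⟨hx, hc⟩

theorem perm0 {r' : SpecialLinearGroup ι F →* G} {U' : Subgroup (SpecialLinearGroup ι F)}
    {e' f' ε' η' : ι → F} (h' : Lo r' P U' e' f' ε' η') (rr : r'.range = r.range) (hp : p ∈ P)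
    {σ : F ≃+* F} {T S : (ι → F) ≃+ (ι → F)} (hS : Semi σ T S)
    (a : ∀ u φ, φ ⬝ᵥ u = 0 → p * r (tv u φ) * p⁻¹ = r' (tv (T u) (S φ)))
    (b : ∀ x, ∃ y, p * r x * p⁻¹ = r' y ∧ ∀ u, y.1 *ᵥ T u = T (x.1 *ᵥ u)) :
    cj(p, Vg r e) = Vg r' e' := by
  obtain ⟨c, k⟩ := h'.toFg.fix1 (x := T e) fun g hg => by
    obtain ⟨x, hx, e1⟩ := h.ofT (inv_conj_mem_of_mem_normalizer (h.nT hp) (rr ▸ h'.memT hg))
    obtain ⟨y, e2, e3⟩ := b x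
    obtain ⟨c, e4⟩ := mem_center_iff'.1 (h'.ker (g * y⁻¹) (by rw [map_mul, map_inv, ← e2, e1]; group))
    obtain ⟨n, hn⟩ := isPGroup_iff.1 h'.syl.pgrp g hg
    refine jr_fix_vec hn (c := c) ?_
    rw [← e4, mul_mulVec', inv_mulVec_of (x := T e) (by rw [e3, h.fe x hx])]
  rw [Sy.cj_of hS a, k, Sy.Vg_smul fun z => h.e0 (T.injective (by rw [k, z, zero_smul, map_zero]))]

theorem permI (hp : p ∈ P) {σ : F ≃+* F} {T S : (ι → F) ≃+ (ι → F)} (hS : Semi σ T S) (a : TyI r p T S) :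
    p ∈ 𝐍[Vg r e] :=
  cj_eq_iff.1 (h.perm0 h rfl hp hS a fun x => (a.conj hS x).imp fun _ b => ⟨b.1, b.2.1⟩)

theorem permII (hp : p ∈ P) {σ : F ≃+* F} {T S : (ι → F) ≃+ (ι → F)} (hS : Semi σ T S)
    (a : TyII r p T S) : cj(p, Vg r e) = Vg (StdL.du r) ε :=
  h.perm0 h.du (range_du r) hp hS (fun u φ k => by rw [du_tv, a u φ k]) fun x => by
    obtain ⟨y, b, -, c⟩ := a.conj hS x
    exact ⟨tr y, by rw [du_apply, tr_tr, b], fun u => by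
      rw [tr_mulVec, vecMul_inv_of (x := T (x.1 *ᵥ u)) (by rw [c, inv_mulVec_mulVec])]⟩

theorem perm (hp : p ∈ P) : (p ∈ 𝐍[Vg r e] ∧ p ∈ 𝐍[Vg (StdL.du r) ε]) ∨
    (cj(p, Vg r e) = Vg (StdL.du r) ε ∧ cj(p, Vg (StdL.du r) ε) = Vg r e) := by
  obtain ⟨σ, ⟨T, S, hS, a⟩ | ⟨T, S, hS, a⟩⟩ := h.toRp.exists_ac (h.nL hp)
  · exact .inl ⟨h.permI hp hS a, h.du.permI hp (A.symm hS) (Sy.TyI.du a)⟩
  · refine .inr ⟨h.permII hp hS a, ?_⟩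
    have := h.du.permII hp (A.symm hS) fun u φ k => by
      rw [du_tv, du_tv, a φ u (by rwa [dotProduct_comm])]
    rwa [du_du] at this

/-- three cosets of `Z` in `W`: `q > 2`: `η`, `a η`; `n ≥ 4`: `exists_12` -/
theorem three_W : ∃ a ∈ Vg r e, ∃ b ∈ Vg r e, a ∉ Zr r e ε ∧ b ∉ Zr r e ε ∧ a⁻¹ * b ∉ Zr r e ε := by
  have ηe := h.toFg.ηe
  obtain ⟨χ, a, b, c⟩ : ∃ χ, χ ⬝ᵥ e = 0 ∧ (∀ c : F, χ ≠ c • ε) ∧ ∀ c : F, η + χ ≠ c • ε := by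
    rcases h.hq with q | q
    · obtain ⟨t, t0, t1⟩ := exists_ne01 q
      have k : ∀ s : F, s ≠ 0 → ∀ c : F, s • η ≠ c • ε := fun s s0 c k =>
        h.η0 (s⁻¹ * c) (by rw [mul_smul, ← k, inv_smul_smul₀ s0])
      refine ⟨t • η, by rw [smul_dotProduct, ηe, smul_zero], k t t0, fun c => ?_⟩
      have := k (1 + t) (fun z => t1 (CharTwo.add_eq_zero.1 z).symm) c
      rwa [add_smul, one_smul] at this
    · obtain ⟨u, a, b⟩ := exists_12 (by omega) e ε η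
      refine ⟨u, by rwa [dotProduct_comm], fun c k => b c 0 (by rw [k, zero_smul, add_zero]),
        fun c k => b c 1 ?_⟩
      rw [← k, one_smul, add_comm, ← add_assoc, vadd_self, zero_add]
  refine ⟨_, mem_Vg.2 ⟨η, ηe, rfl⟩, _, mem_Vg.2 ⟨χ, a, rfl⟩, fun k => ?_, fun k => ?_, fun k => ?_⟩
  · exact ((h.tv_Z ηe).1 k).elim h.η0
  · exact ((h.tv_Z a).1 k).elim b
  · rw [← map_inv, ← map_mul, tv_inv, ← tv_add ηe a] at k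
    exact ((h.tv_Z (by rw [add_dotProduct, ηe, a, add_zero])).1 k).elim c

theorem inner (hp : p ∈ P) (h1 : p ∈ 𝐍[Vg r e]) (h2 : p ∈ 𝐂[Zr r e ε]) :
    ∃ a ∈ P ⊓ r.range, ∃ c ∈ P ⊓ 𝐂[r.range], p = a * c := by
  obtain ⟨σ, T, S, hS, a, b⟩ := h.toRp.norm_V (h.nL hp) h.e0 fun v => conj_mem_of_mem_normalizer h1
  have k : ∀ c : F, S (c • ε) = c • ε := fun c => h.rinj (b ▸ A.dot0 hS (h.cε c)) (h.cε c) (by
    have := a e _ (h.cε c)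
    rw [b] at this
    rw [← this, ← h2 _ (h.mem_Z.2 ⟨c, rfl⟩), mul_inv_cancel_right])
  obtain rfl : σ = RingEquiv.refl F := RingEquiv.ext fun c => smul_left_injective F h.ε0 (by
    have := k 1
    rw [one_smul] at this
    have e1 := k c
    rwa [hS.smS, this] at e1)
  obtain ⟨n, hn⟩ := isPGroup_iff.1 h.pg p hp
  obtain ⟨x, x1, x2⟩ := h.toRp.inner ⟨T, S, hS, a⟩ (k := n) fun y => by rw [hn, one_mul, mul_one]
  have m : r x ∈ P ⊓ r.range := h.sylT.le_of_normalizes (R := zpowers (r x))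
    (isPGroup_zpowers ⟨n, by rw [← map_pow, x1, map_one]⟩) (zpowers_le.2 ⟨x, rfl⟩)
    (zpowers_le.2 (mem_normalizer_of_cj_le (cj_le_iff_forall.2 fun t ht => by
      have := conj_mem_of_mem_normalizer (h.nT hp) ht
      obtain ⟨y, rfl⟩ := ht.2
      rwa [x2, map_mul, map_mul, map_inv] at this))) (mem_zpowers _)
  refine ⟨_, m, (r x)⁻¹ * p, ⟨P.mul_mem (P.inv_mem m.1) hp, ?_⟩, (mul_inv_cancel_left _ _).symm⟩
  rintro _ ⟨y, rfl⟩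
  have := x2 y
  rw [map_mul, map_mul, map_inv] at this
  calc _ = (r x)⁻¹ * (r x * r y * (r x)⁻¹) * p := by group
    _ = _ := by rw [← this]; group

theorem c1 (hx : x ∈ P) (hc : x ∈ 𝐂[P ⊓ r.range]) : ∃ z ∈ Zt (P ⊓ r.range), x * z ∈ 𝐂[r.range] := by
  obtain ⟨v, a, b⟩ := h.cV hx (centralizer_anti h.WT hc)
  exact ⟨v, ⟨h.WT a, (Subgroup.mul_mem_cancel_right _ hc).1 (centralizer_anti inf_le_right b)⟩,
    hc v (h.WT a) ▸ b⟩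

/-- `Out.tv_cmt` with `tv e χ`, `tv f ε`, `χ ⬝ᵥ f = c` -/
theorem c2 : Zt (P ⊓ r.range) ≤ ⁅P ⊓ r.range, P ⊓ r.range⁆ := fun x hx => by
  obtain ⟨c, rfl⟩ := h.mem_Z.1 (h.Z_eq ▸ hx)
  obtain ⟨θ, a, b⟩ := exists_dot1 h.f0
  have k : (c • θ) ⬝ᵥ e = 0 := by rw [smul_dotProduct, b, smul_zero]
  have := commutator_mem_commutator (h.memT (h.toFg.tvW k)) (h.memT (h.toFg.tvW' h.toFg.εf))
  rwa [← map_commutatorElement, commutatorElement_def, Out.tv_cmt k h.toFg.εf h.toFg.εe, smul_dotProduct, a,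
    smul_eq_mul, mul_one] at this

/-- `Rp.trans_V` -/
theorem zc : ∀ a ∈ Zt (P ⊓ r.range), ∀ b ∈ Zt (P ⊓ r.range), a ≠ 1 → b ≠ 1 →
    ∃ l ∈ r.range, l * a * l⁻¹ = b := fun a ha b hb a1 b1 => by
  obtain ⟨c, rfl⟩ := h.mem_Z.1 (h.Z_eq ▸ ha)
  obtain ⟨d, rfl⟩ := h.mem_Z.1 (h.Z_eq ▸ hb)
  obtain ⟨x, -, k⟩ := h.toRp.trans_V h.e0 (h.cε c) (h.cε d) (fun z => a1 (by rw [z, tv_zero, map_one]))
    fun z => b1 (by rw [z, tv_zero, map_one])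
  exact ⟨_, ⟨x, rfl⟩, by rw [← k, map_mul, map_mul, map_inv]⟩

theorem kz (hp : p ∈ P) (h1 : ∀ v ∈ Vg r e, p * v * p⁻¹ * v⁻¹ ∈ Zr r e ε) (h2 : p ∉ 𝐂[Vg r e])
    (hx : x ∈ Zr r e ε) : ∃ v ∈ Vg r e, p * v * p⁻¹ * v⁻¹ = x := by
  obtain ⟨σ, T, S, hS, a, b⟩ := h.toRp.norm_V (h.nL hp) h.e0 fun v hv =>
    (Subgroup.mul_mem_cancel_right _ (inv_mem hv)).1 (h1 v hv).1
  have d : ∀ φ, φ ⬝ᵥ e = 0 → S φ ⬝ᵥ e = 0 := fun φ k => b ▸ A.dot0 hS k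
  have k : ∀ φ, φ ⬝ᵥ e = 0 → p * r (tv e φ) * p⁻¹ * (r (tv e φ))⁻¹ = r (tv e (S φ + φ)) := fun φ k => by
    rw [a e φ k, b, ← map_inv, ← map_mul, tv_inv, tv_add (d φ k) k]
  have l : ∀ φ, φ ⬝ᵥ e = 0 → ∃ c : F, S φ + φ = c • ε := fun φ q =>
    (h.tv_Z (by rw [add_dotProduct, d φ q, q, add_zero])).1 (k φ q ▸ h1 _ (mem_Vg.2 ⟨φ, q, rfl⟩))
  have sm : ∀ (c : F) (φ : ι → F), φ ⬝ᵥ e = 0 → (c • φ) ⬝ᵥ e = 0 := fun c φ q => by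
    rw [smul_dotProduct, q, smul_zero]
  have s : ∀ a, σ a = a := fun a => by
    obtain ⟨c, e1⟩ := l η h.toFg.ηe
    obtain ⟨c', e2⟩ := l _ (sm a η h.toFg.ηe)
    rw [hS.smS, eq_sub_of_add_eq e1] at e2
    by_contra z
    refine h.η0 ((a - σ a)⁻¹ * (c' - σ a * c)) ?_
    rw [mul_smul, eq_inv_smul_iff₀ (sub_ne_zero.2 (Ne.symm z)), sub_smul, sub_smul, ← e2]
    module
  obtain ⟨φ, q, z⟩ : ∃ φ, φ ⬝ᵥ e = 0 ∧ S φ + φ ≠ 0 := by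
    by_contra! z
    refine h2 fun v hv => ?_
    obtain ⟨φ, q, rfl⟩ := mem_Vg.1 hv
    have := k φ q
    rw [z φ q, tv_zero, map_one, mul_inv_eq_one, mul_inv_eq_iff_eq_mul] at this
    exact this.symm
  obtain ⟨c, e1⟩ := l φ q
  obtain ⟨c', rfl⟩ := h.mem_Z.1 hx
  refine ⟨_, mem_Vg.2 ⟨_, sm (c' / c) φ q, rfl⟩, ?_⟩
  rw [k _ (sm _ φ q), hS.smS, s, ← smul_add, e1, smul_smul,
    div_mul_cancel₀ _ fun y => z (by rw [e1, y, zero_smul])]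

theorem zf {A : Subgroup G} (hA : A ≤ P) (hn : P ⊓ r.range ≤ 𝐍[A]) :
    A ≤ 𝐂[P ⊓ r.range] ∨ Zt (P ⊓ r.range) ≤ A := by
  refine or_iff_not_imp_left.2 fun nc => ?_
  have m : ∀ p ∈ A, ∀ t ∈ P ⊓ r.range, p * t * p⁻¹ * t⁻¹ ∈ A ⊓ (P ⊓ r.range) := fun p hp t ht =>
    mem_inf.2 ⟨by simpa only [mul_assoc] using mul_mem hp (conj_mem_of_mem_normalizer (hn ht) (inv_mem hp)),
      mul_mem (conj_mem_of_mem_normalizer (h.nT (hA hp)) ht) (inv_mem ht)⟩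
  obtain ⟨p, hp, a, b⟩ : ∃ p ∈ A, p ∉ 𝐂[P ⊓ r.range] ∧
      ∀ t ∈ P ⊓ r.range, p * t * p⁻¹ * t⁻¹ ∈ 𝐂[P ⊓ r.range] := by
    by_cases c : A ⊓ (P ⊓ r.range) ≤ 𝐂[P ⊓ r.range]
    · obtain ⟨p, hp, a⟩ := SetLike.not_le_iff_exists.1 nc
      exact ⟨p, hp, a, fun t ht => c (m p hp t ht)⟩
    · obtain ⟨p, hp, a⟩ := lo_z2 h.sylT.pgrp inf_le_right (le_normalizer_inf hn le_normalizer) c
      exact ⟨p, hp.1, a⟩
  replace b := fun t ht => h.toZ (m p hp t ht).2 (b t ht)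
  rw [h.Z_eq]
  intro x hx
  by_cases c : p ∈ 𝐂[Vg r e]
  · by_cases c' : p ∈ 𝐂[Vg (StdL.du r) ε]
    · obtain ⟨v, hv, k⟩ := h.cV (hA hp) c
      have := h.cW' (h.WT hv) ((Subgroup.mul_mem_cancel_right _ c').1
        (centralizer_anti (h.WT'.trans inf_le_right) k))
      exact absurd ((Subgroup.mul_mem_cancel_left _ (h.ZC ⟨hv, this⟩)).1 (centralizer_anti inf_le_right k)) a
    · obtain ⟨v, hv, rfl⟩ := h.du.kz (x := x) (hA hp) (fun v hv => Zr_du r e ε ▸ b v (h.WT' hv)) c'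
        (Zr_du r e ε ▸ hx)
      exact (m p hp v (h.WT' hv)).1
  · obtain ⟨v, hv, rfl⟩ := h.kz (hA hp) (fun v hv => b v (h.WT hv)) c hx
    exact (m p hp v (h.WT hv)).1

/-- `r (tv e η) ∈ W \ Z` has `[·, T] ≤ Z` (`tv_conj`, `fη`) -/
theorem exists_z2 : ∃ a ∈ Vg r e, a ∉ Zr r e ε ∧
    ∀ x ∈ P ⊓ r.range, x * a * x⁻¹ * a⁻¹ ∈ Zr r e ε := by
  have ηe := h.toFg.ηe
  refine ⟨_, mem_Vg.2 ⟨η, ηe, rfl⟩, fun k => ((h.tv_Z ηe).1 k).elim h.η0, fun x hx => ?_⟩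
  obtain ⟨g, hg, rfl⟩ := h.ofT hx
  obtain ⟨c, k⟩ := h.fη _ (inv_mem hg)
  refine h.mem_Z.2 ⟨c, ?_⟩
  rw [← map_inv, ← map_inv, ← map_mul, ← map_mul, ← map_mul, tv_conj, h.fe g hg, k, add_comm,
    tv_add (h.cε c) ηe, mul_inv_cancel_right]

theorem yl {u : ι → F} (hu : ε ⬝ᵥ u = 0)
    (hy : ∀ t ∈ P ⊓ r.range, t * r (tv u ε) * t⁻¹ * (r (tv u ε))⁻¹ ∈ Zr r e ε) :
    ∃ a b : F, u = a • e + b • f := h.toFg.fix2 fun g hg => by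
  have k := (hy _ (h.memT hg)).1
  have l : ε ⬝ᵥ g.1 *ᵥ u = 0 := by rw [← vecMul_dot, h.fε g hg, hu]
  rw [← map_inv, ← map_inv, ← map_mul, ← map_mul, ← map_mul, tv_conj, h.fε _ (inv_mem hg), tv_inv,
    ← add_tv l hu] at k
  obtain ⟨a, k⟩ := Sy.smul_of_mem h.toRp (by rw [dotProduct_add, l, hu, add_zero]) h.ε0 k
  exact ⟨a, by rw [← k, add_comm (g.1 *ᵥ u), ← add_assoc, vadd_self, zero_add]⟩

theorem h4 : ∃ A ≤ P ⊓ r.range, (∀ a ∈ A, a * a = 1) ∧ P ≤ 𝐍[A] ∧ 2 < Nat.card A := by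
  rcases h.hq with q | q
  · exact ⟨_, inf_le_left.trans h.WT, fun a ha => el_Vg e a ha.1, h.nZ, h.card_Z ▸ q⟩
  let Y : Subgroup G :=
    { carrier := {y | y ∈ P ⊓ r.range ∧ ∀ x ∈ P ⊓ r.range, x * y * x⁻¹ * y⁻¹ ∈ Zr r e ε}
      one_mem' := ⟨one_mem _, fun x _ => by simp⟩
      mul_mem' := fun {a b} ha hb => ⟨mul_mem ha.1 hb.1, fun x hx => by
        have := mul_mem (ha.2 x hx) (conj_mem_of_mem_normalizer (h.nZ ha.1.1) (hb.2 x hx))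
        rwa [show x * a * x⁻¹ * a⁻¹ * (a * (x * b * x⁻¹ * b⁻¹) * a⁻¹) = x * (a * b) * x⁻¹ * (a * b)⁻¹ by
          group] at this⟩
      inv_mem' := fun {a} ha => ⟨inv_mem ha.1, fun x hx => by
        have := inv_conj_mem_of_mem_normalizer (h.nZ ha.1.1) (inv_mem (ha.2 x hx))
        rwa [show a⁻¹ * (x * a * x⁻¹ * a⁻¹)⁻¹ * a = x * a⁻¹ * x⁻¹ * a⁻¹⁻¹ by group] at this⟩ }
  have nY : ∀ p ∈ P, cj(p, Y) ≤ Y := fun p hp => cj_le_iff_forall.2 fun y hy =>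
    ⟨conj_mem_of_mem_normalizer (h.nT hp) hy.1, fun x hx => by
      have := conj_mem_of_mem_normalizer (h.nZ hp) (hy.2 _ (inv_conj_mem_of_mem_normalizer (h.nT hp) hx))
      rwa [show p * (p⁻¹ * x * p * y * (p⁻¹ * x * p)⁻¹ * y⁻¹) * p⁻¹ =
        x * (p * y * p⁻¹) * x⁻¹ * (p * y * p⁻¹)⁻¹ by group] at this⟩
  have cm : Vg r e ⊓ Y ≤ 𝐂[Vg (StdL.du r) ε ⊓ Y] := by
    rintro _ ⟨a1, a2⟩ _ ⟨b1, b2⟩
    obtain ⟨φ, a, rfl⟩ := mem_Vg.1 a1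
    obtain ⟨u, b, rfl⟩ := mem_Vg'.1 b1
    obtain ⟨c, d, k⟩ := h.yl b b2.2
    obtain ⟨c', d', k'⟩ := h.du.yl (u := φ) (by rwa [dotProduct_comm]) (by
      rw [range_du, Zr_du, du_tv]; exact a2.2)
    rw [← map_mul, ← map_mul, tv_comm_tv a b (by
      simp [k, k', h.toFg.εe, h.toFg.εf, h.toFg.ηe, h.toFg.ηf (by omega)]) h.toFg.εe]
  refine ⟨(Vg r e ⊓ Y) ⊔ (Vg (StdL.du r) ε ⊓ Y), sup_le (inf_le_left.trans h.WT) (inf_le_left.trans h.WT'),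
    fun x hx => ?_, le_normalizer_iff_cj.2 fun p hp => ?_, ?_⟩
  · obtain ⟨a, ha, b, hb, rfl⟩ := (mem_sup_of_le_normalizer_right
      (cm.trans (centralizer_le_normalizer' _))).1 hx
    rw [mul_assoc, ← mul_assoc b, cm ha b hb, mul_assoc, el_Vg ε b hb.1, mul_one, el_Vg e a ha.1]
  · rw [cj_sup, cj_inf, cj_inf]
    rcases h.perm hp with ⟨a, b⟩ | ⟨a, b⟩
    · rw [cj_eq_iff.2 a, cj_eq_iff.2 b]
      exact sup_le_sup (inf_le_inf_left _ (nY p hp)) (inf_le_inf_left _ (nY p hp))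
    · rw [a, b, sup_comm]
      exact sup_le_sup (inf_le_inf_left _ (nY p hp)) (inf_le_inf_left _ (nY p hp))
  · obtain ⟨a, a1, a2, a3⟩ := h.exists_z2
    have l : Zr r e ε ≤ (Vg r e ⊓ Y) ⊔ (Vg (StdL.du r) ε ⊓ Y) := fun z hz => mem_sup_left
      ⟨hz.1, h.WT hz.1, fun x hx => by rw [h.ZC hz x hx]; simp⟩
    by_contra! k
    exact a2 (eq_of_le_of_card_ge l (k.trans (h.card_Z ▸ Finite.one_lt_card)) ▸
      mem_sup_left ⟨a1, h.WT a1, a3⟩)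

end Lo

end Cfsg.Agent.StdL
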