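import Cfsg.Agent.StdL.LoA
import Cfsg.Agent.StdL.OutA

/-! The Sylow facts `WfS.Loc` for `L = r(SL)`, second part (notation of `LoA`, `C = P ⊓ C(L)`). -/

set_option autoImplicit false
set_option linter.unusedSectionVars false

namespace Cfsg.Agent.StdL

open Matrix Subgroup Cfsg.Agent.LnT Cfsg.Agent.PLocal.Amb Cfsg.Agent.WfS
open scoped commutatorElement

variable {F ι G : Type*} [Field F] [Fintype ι] [DecidableEq ι] [Group G] [CharP F 2] [Finite F]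
  [Finite G] {r : SpecialLinearGroup ι F →* G} {P : Subgroup G}
  {U : Subgroup (SpecialLinearGroup ι F)} {e f ε η : ι → F} {u y : G}

namespace Lo
variable (h : Lo r P U e f ε η)
include h

theorem lb_nT : P ≤ 𝐍[P ⊓ r.range] := le_normalizer_inf le_normalizer h.nL

theorem lb_nZ : P ≤ 𝐍[Zr r e ε] :=
  h.Z_eq ▸ le_normalizer_inf h.lb_nT (le_normalizer_centralizer h.lb_nT)

theorem lb_ZC {z x : G} (hz : z ∈ Zr r e ε) (hx : x ∈ P ⊓ r.range) : x * z = z * x :=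
  (h.Z_eq ▸ hz : z ∈ Zt (P ⊓ r.range)).2 x hx

theorem lb_U {x : G} (hx : x ∈ P ⊓ r.range) : ∃ g ∈ U, r g = x := (h.map ▸ hx : x ∈ U.map r)

theorem lb_inj {g k : SpecialLinearGroup ι F} (hg : g ∈ U) (hk : k ∈ U) (e1 : r g = r k) : g = k := by
  obtain ⟨a, ha⟩ := isPGroup_iff.1 h.syl.pgrp g hg
  obtain ⟨b, hb⟩ := isPGroup_iff.1 h.syl.pgrp k hk
  exact h.toRp.eq_of (k := a + b) (by rw [pow_add, pow_mul, ha, one_pow])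
    (by rw [add_comm, pow_add, pow_mul, hb, one_pow]) e1

theorem lb_tvU (c : F) : tv e (c • ε) ∈ U :=
  h.toFg.tvW (by rw [smul_dotProduct, h.toFg.εe, smul_zero])

theorem lb_toZ {g : SpecialLinearGroup ι F} (hg : g ∈ U) (hz : r g ∈ Zr r e ε) :
    ∃ c : F, g = tv e (c • ε) := by
  obtain ⟨c, hc⟩ := h.mem_Z.1 hz
  exact ⟨c, h.lb_inj hg (h.lb_tvU c) hc.symm⟩

theorem lb_sw (hu : u ∈ P) (hn : u ∉ 𝐍[Vg r e]) :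
    cj(u, Vg r e) = Vg (StdL.du r) ε ∧ cj(u, Vg (StdL.du r) ε) = Vg r e :=
  (h.perm hu).resolve_left fun c => hn c.1

/-- a swapping element moves every element of `W \\ Z` out of `W` -/
theorem lb_out (hu : u ∈ P) (hn : u ∉ 𝐍[Vg r e]) {v : G} (hv : v ∈ Vg r e)
    (c : u * v * u⁻¹ ∈ Vg r e) : v ∈ Zr r e ε := by
  have := inv_conj_mem_of_mem_normalizer (h.lb_nZ hu)
    (⟨c, (h.lb_sw hu hn).1 ▸ conj_mem_cj u hv⟩ : u * v * u⁻¹ ∈ Zr r e ε)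
  rwa [show u⁻¹ * (u * v * u⁻¹) * u = v by group] at this

theorem lb_cjW {v : G} (hv : v ∈ Vg r e) : ∃ l ∈ r.range, l * v * l⁻¹ ∈ Zr r e ε := by
  obtain ⟨φ, h1, rfl⟩ := mem_Vg.1 hv
  by_cases h0 : φ = 0
  · exact ⟨1, one_mem _, by rw [h0, tv_zero, map_one]; simp⟩
  obtain ⟨x, -, hx⟩ := h.toRp.trans_V h.e0 h1 h.toFg.εe h0 h.ε0
  exact ⟨r x, ⟨x, rfl⟩, h.mem_Z.2 ⟨1, by rw [one_smul, ← hx, map_mul, map_mul, map_inv]⟩⟩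

theorem lb_K {φ : ι → F} (h1 : φ ⬝ᵥ e = 0) (h2 : φ ⬝ᵥ f = 0) :
    r (tv e φ) ∈ ⁅P ⊓ r.range, P ⊓ r.range⁆ := by
  obtain ⟨χ, c1, c2⟩ := exists_dot1 h.f0
  have := Out.tv_cmt c2 h2 h1
  rw [c1, one_smul] at this
  rw [← this, map_mul, map_mul, map_mul, map_inv, map_inv]
  exact commutator_mem_commutator (h.memT (h.toFg.tvW c2)) (h.memT (h.toFg.tvl h1 h2))

/-- PROOF. `d_x = x y x⁻¹ y⁻¹`.  If `x, x' ∈ T \ B`, `x' = x k`, `k ∈ B`, so `x' y x'⁻¹ ∈ Z x y x⁻¹` (`Z` is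
central in `T`): this is `b3` of `Fg.key`.  If `d = d_x ∉ Z`: `u d u⁻¹ = d_{u x u⁻¹}` (as `u y u⁻¹ ∈ Z y`)
is not in `Z` (`u` normalises `Z`), so lies in `Z d`; if `d ∈ W` then `u d u⁻¹ ∈ W ⊓ W' = Z`, false; same
for `W'`.  These are `b1`, `b2` (transfer to `SL` with `Rp.eq_of`, all elements lie in `U`). -/
theorem key (hu : u ∈ P) (hn : u ∉ 𝐍[Vg r e]) {B : Subgroup G}
    (hB : ∀ a ∈ P ⊓ r.range, ∀ b ∈ P ⊓ r.range, a ∉ B → b ∉ B → a⁻¹ * b ∈ B)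
    (hy : y ∈ P ⊓ r.range) (h1 : ∀ x ∈ P ⊓ r.range, x ∈ B → x * y * x⁻¹ * y⁻¹ ∈ Zr r e ε)
    (h2 : u * y * u⁻¹ * y⁻¹ ∈ Zr r e ε) : ∀ x ∈ P ⊓ r.range, x * y * x⁻¹ * y⁻¹ ∈ Zr r e ε := by
  have b3 : ∀ x ∈ P ⊓ r.range, ∀ x' ∈ P ⊓ r.range, x * y * x⁻¹ * y⁻¹ ∈ Zr r e ε ∨
      x' * y * x'⁻¹ * y⁻¹ ∈ Zr r e ε ∨ ∃ z ∈ Zr r e ε, x * y * x⁻¹ = z * (x' * y * x'⁻¹) := by
    intro x hx x' hx'
    by_cases c : x ∈ B
    · exact Or.inl (h1 x hx c)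
    by_cases c' : x' ∈ B
    · exact Or.inr (Or.inl (h1 x' hx' c'))
    have m := h1 _ (mul_mem (inv_mem hx') hx) (hB x' hx' x hx c' c)
    refine Or.inr (Or.inr ⟨_, m, ?_⟩)
    rw [← mul_assoc, ← mul_assoc, ← h.lb_ZC m hx']
    group
  have b12 : ∀ x ∈ P ⊓ r.range, x * y * x⁻¹ * y⁻¹ ∈ Vg r e ∨ x * y * x⁻¹ * y⁻¹ ∈ Vg (StdL.du r) ε →
      x * y * x⁻¹ * y⁻¹ ∈ Zr r e ε := by
    intro x hx hd
    by_contra n
    have hx' := conj_mem_of_mem_normalizer (h.lb_nT hu) hx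
    have m := mul_mem (mul_mem (mul_mem hx' hy) (inv_mem hx')) (inv_mem hy)
    have e1 : u * (x * y * x⁻¹ * y⁻¹) * u⁻¹ = u * x * u⁻¹ * y * (u * x * u⁻¹)⁻¹ * y⁻¹ := by
      calc _ = u * x * u⁻¹ * (u * y * u⁻¹ * y⁻¹) * y * (u * x * u⁻¹)⁻¹ * y⁻¹ *
            (u * y * u⁻¹ * y⁻¹)⁻¹ := by group
        _ = (u * y * u⁻¹ * y⁻¹) * (u * x * u⁻¹ * y * (u * x * u⁻¹)⁻¹ * y⁻¹) *
            (u * y * u⁻¹ * y⁻¹)⁻¹ := by rw [h.lb_ZC h2 hx']; simp only [mul_assoc]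
        _ = _ := by rw [← h.lb_ZC h2 m, mul_inv_cancel_right]
    have n' : u * (x * y * x⁻¹ * y⁻¹) * u⁻¹ ∉ Zr r e ε := fun c => n (by
      have := inv_conj_mem_of_mem_normalizer (h.lb_nZ hu) c
      rwa [show u⁻¹ * (u * (x * y * x⁻¹ * y⁻¹) * u⁻¹) * u = x * y * x⁻¹ * y⁻¹ by group] at this)
    obtain ⟨z, hz, e2⟩ := ((b3 x hx _ hx').resolve_left n).resolve_left (e1 ▸ n')
    have e3 : u * (x * y * x⁻¹ * y⁻¹) * u⁻¹ = z⁻¹ * (x * y * x⁻¹ * y⁻¹) := by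
      rw [e1, e2, mul_assoc z, inv_mul_cancel_left]
    rcases hd with c | c
    · exact n' (mem_inf.2 ⟨e3 ▸ mul_mem (inv_mem hz.1) c, (h.lb_sw hu hn).1 ▸ conj_mem_cj u c⟩)
    · exact n' (mem_inf.2 ⟨(h.lb_sw hu hn).2 ▸ conj_mem_cj u c, e3 ▸ mul_mem (inv_mem hz.2) c⟩)
  obtain ⟨y₀, hy₀, rfl⟩ := h.lb_U hy
  have mU : ∀ g ∈ U, g * y₀ * g⁻¹ * y₀⁻¹ ∈ U := fun g hg =>
    mul_mem (mul_mem (mul_mem hg hy₀) (inv_mem hg)) (inv_mem hy₀)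
  have er : ∀ g, r (g * y₀ * g⁻¹ * y₀⁻¹) = r g * r y₀ * (r g)⁻¹ * (r y₀)⁻¹ := fun g => by
    rw [map_mul, map_mul, map_mul, map_inv, map_inv]
  intro x hx
  obtain ⟨g, hg, rfl⟩ := h.lb_U hx
  obtain ⟨c, hc⟩ := h.toFg.key h.hq hy₀
    (fun g hg φ c1 c2 => h.lb_toZ (mU g hg) (er g ▸ b12 _ (h.memT hg)
      (Or.inl (er g ▸ mem_Vg.2 ⟨φ, c1, by rw [c2]⟩))))
    (fun g hg v c1 c2 => h.lb_toZ (mU g hg) (er g ▸ b12 _ (h.memT hg)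
      (Or.inr (er g ▸ mem_Vg'.2 ⟨v, c1, by rw [c2]⟩))))
    (fun g hg k hk => by
      rcases b3 _ (h.memT hg) _ (h.memT hk) with c | c | ⟨z, hz, c⟩
      · exact Or.inl (h.lb_toZ (mU g hg) (er g ▸ c))
      · exact Or.inr (Or.inl (h.lb_toZ (mU k hk) (er k ▸ c)))
      · obtain ⟨a, rfl⟩ := h.mem_Z.1 hz
        exact Or.inr (Or.inr ⟨a, h.lb_inj (mul_mem (mul_mem hg hy₀) (inv_mem hg))
          (mul_mem (h.lb_tvU a) (mul_mem (mul_mem hk hy₀) (inv_mem hk)))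
          (by simpa only [map_mul, map_inv] using c)⟩)) hg
  rw [← er, hc]
  exact h.mem_Z.2 ⟨c, rfl⟩

/-- PROOF. `P₁ = T ⊔ C = P ⊓ N(W)` (`inner`; `T` normalises `W` by `perm` for elements of `U`, or
`cj_Vg`), and `a, b ∈ P \ P₁` give `a⁻¹ b ∈ P₁` (`perm`).  Suppose `cj(g, T) ≰ P₁`; `B = cj(g, P₁) ≤ P`
has the same property and contains some `u ∉ N(W)`.  `Y = {y ∈ P | ∀ x ∈ P₁, x y x⁻¹ y⁻¹ ∈ Z}` is a
subgroup (`Z` is central in `P`).  For `y₀ ∈ Y`, `y = g y₀ g⁻¹ ∈ P` has `[B, y] ≤ Z`.  `y ∈ N(W)`: otherwise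
`y` swaps `W, W'`, and `v ∈ W ⊓ B` has `y v y⁻¹ ∈ W ⊓ W' = Z`, `v ∈ Z`, against `three_W`.  So
`y = y' c` (`inner`), `c` central in `P`; `key` gives `[T, y'] ≤ Z`, `y ∈ Y`.  Hence `g ∈ N(Y)`
(`mem_normalizer_of_cj_le`).  `a` from `exists_z2` lies in `Y = cj(g, Y)`, so `[u, a] ∈ Z`,
`u a u⁻¹ ∈ W ⊓ W' = Z`, `a ∈ Z`: false. -/
theorem gr (h1 : P ≤ 𝐂[Zt (P ⊓ r.range)]) (h2 : P ⊓ 𝐂[r.range] ≤ 𝐂[P]) {g : G} (g1 : g ∈ 𝐍[P])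
    (g2 : g ∈ 𝐍[P ⊓ 𝐂[r.range]]) (g3 : g ∈ 𝐍[Zt (P ⊓ r.range)]) :
    cj(g, P ⊓ r.range) ≤ (P ⊓ r.range) ⊔ (P ⊓ 𝐂[r.range]) := by
  rw [h.Z_eq] at h1 g3
  have WL : Vg r e ≤ r.range := h.WT.trans inf_le_right
  have P1 : (P ⊓ r.range) ⊔ (P ⊓ 𝐂[r.range]) ≤ P ⊓ 𝐍[Vg r e] := by
    refine sup_le (le_inf inf_le_left fun x hx => ?_) (inf_le_inf_left _
      ((centralizer_anti WL).trans (centralizer_le_normalizer' _)))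
    obtain ⟨k, hk, rfl⟩ := h.lb_U hx
    rw [← cj_eq_iff, cj_Vg, h.fe k hk]
  have dec : ∀ p ∈ P ⊓ 𝐍[Vg r e], ∃ a ∈ P ⊓ r.range, ∃ c ∈ P ⊓ 𝐂[r.range], p = a * c :=
    fun p hp => h.inner hp.1 hp.2 (h1 hp.1)
  by_contra hn
  obtain ⟨u, uT, un⟩ := SetLike.not_le_iff_exists.1 hn
  have uP : u ∈ P := cj_le_of_mem_normalizer inf_le_left g1 uT
  have uN : u ∉ 𝐍[Vg r e] := fun c => un (by
    obtain ⟨a, ha, c, hc, rfl⟩ := dec u ⟨uP, c⟩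
    exact mul_mem_sup ha hc)
  have uB : u ∈ cj(g, P ⊓ 𝐍[Vg r e]) := cj_mono g (le_sup_left.trans P1) uT
  have hB : ∀ a ∈ P, ∀ b ∈ P, a ∉ cj(g, P ⊓ 𝐍[Vg r e]) → b ∉ cj(g, P ⊓ 𝐍[Vg r e]) →
      a⁻¹ * b ∈ cj(g, P ⊓ 𝐍[Vg r e]) := by
    intro a ha b hb na nb
    have ha' := inv_conj_mem_of_mem_normalizer g1 ha
    have hb' := inv_conj_mem_of_mem_normalizer g1 hb
    rw [mem_cj, show g⁻¹ * (a⁻¹ * b) * g = (g⁻¹ * a * g)⁻¹ * (g⁻¹ * b * g) by group]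
    refine mem_inf.2 ⟨mul_mem (inv_mem ha') hb', cj_eq_iff.1 ?_⟩
    rw [cj_mul, (h.lb_sw hb' fun c => nb (mem_cj.2 ⟨hb', c⟩)).1,
      ← (h.lb_sw ha' fun c => na (mem_cj.2 ⟨ha', c⟩)).1, cj_inv_cj]
  let Y : Subgroup G :=
    { carrier := {y | y ∈ P ∧ ∀ x ∈ P ⊓ 𝐍[Vg r e], x * y * x⁻¹ * y⁻¹ ∈ Zr r e ε}
      one_mem' := ⟨one_mem _, fun x _ => by simp⟩
      mul_mem' := fun {a b} ha hb => ⟨mul_mem ha.1 hb.1, fun x hx => by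
        have := mul_mem (ha.2 x hx) (conj_mem_of_mem_normalizer (h.lb_nZ ha.1) (hb.2 x hx))
        rwa [show x * a * x⁻¹ * a⁻¹ * (a * (x * b * x⁻¹ * b⁻¹) * a⁻¹) =
          x * (a * b) * x⁻¹ * (a * b)⁻¹ by group] at this⟩
      inv_mem' := fun {a} ha => ⟨inv_mem ha.1, fun x hx => by
        have := inv_conj_mem_of_mem_normalizer (h.lb_nZ ha.1) (inv_mem (ha.2 x hx))
        rwa [show a⁻¹ * (x * a * x⁻¹ * a⁻¹)⁻¹ * a = x * a⁻¹ * x⁻¹ * a⁻¹⁻¹ by group] at this⟩ }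
  have memY : ∀ y ∈ P, (∀ x ∈ P ⊓ r.range, x * y * x⁻¹ * y⁻¹ ∈ Zr r e ε) → y ∈ Y := by
    intro y hy c
    refine ⟨hy, fun x hx => ?_⟩
    obtain ⟨a, ha, k, hk, rfl⟩ := dec x hx
    rw [mul_assoc a, ← h2 hk y hy, show a * (y * k) * (a * k)⁻¹ * y⁻¹ = a * y * a⁻¹ * y⁻¹ by group]
    exact c a ha
  have cB : ∀ y ∈ cj(g, Y), ∀ x ∈ cj(g, P ⊓ 𝐍[Vg r e]), x * y * x⁻¹ * y⁻¹ ∈ Zr r e ε := by
    intro y hy x hx
    have := conj_mem_of_mem_normalizer g3 ((mem_cj.1 hy).2 _ (mem_cj.1 hx))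
    rwa [show g * (g⁻¹ * x * g * (g⁻¹ * y * g) * (g⁻¹ * x * g)⁻¹ * (g⁻¹ * y * g)⁻¹) * g⁻¹ =
      x * y * x⁻¹ * y⁻¹ by group] at this
  have gY : g ∈ 𝐍[Y] := by
    refine mem_normalizer_of_cj_le fun y hy => ?_
    have yP : y ∈ P := cj_le_of_mem_normalizer (Q := Y) (fun _ c => c.1) g1 hy
    have yN : y ∈ 𝐍[Vg r e] := by
      by_contra yN
      have k : ∀ v ∈ Vg r e, v ∈ cj(g, P ⊓ 𝐍[Vg r e]) → v ∈ Zr r e ε := fun v hv c => by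
        refine inv_mem_iff.1 (h.lb_out yP yN (inv_mem hv) ?_)
        have := mul_mem (inv_mem hv) (cB y hy v c).1
        rwa [show v⁻¹ * (v * y * v⁻¹ * y⁻¹) = y * v⁻¹ * y⁻¹ by group] at this
      obtain ⟨a, ha, b, hb, n1, n2, n3⟩ := h.three_W
      exact n3 (k _ (mul_mem (inv_mem ha) hb) (hB a (h.WT ha).1 b (h.WT hb).1
        (fun c => n1 (k a ha c)) fun c => n2 (k b hb c)))
    obtain ⟨a, ha, c, hc, rfl⟩ := dec y ⟨yP, yN⟩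
    have e1 : ∀ x ∈ P, x * (a * c) * x⁻¹ * (a * c)⁻¹ = x * a * x⁻¹ * a⁻¹ := fun x hx => by
      rw [← mul_assoc x, mul_assoc _ c, ← h2 hc _ (inv_mem hx)]; group
    refine memY _ yP fun x hx => ?_
    rw [e1 x hx.1]
    exact h.key uP uN (fun a ha b hb => hB a ha.1 b hb.1) ha
      (fun x hx c => e1 x hx.1 ▸ cB _ hy x c) (e1 u uP ▸ cB _ hy u uB) x hx
  obtain ⟨a, ha, n, c⟩ := h.exists_z2
  have := cB a ((cj_of_mem_normalizer gY).symm ▸ memY a (h.WT ha).1 c) u uB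
  exact n (h.lb_out uP uN ha ((mul_mem_cancel_right (inv_mem ha)).1 this.1))

/-- PROOF. `card_Z`, `hq`; `nf3`; elements of `W` and `W'` are conjugate into `Z` (`Rp.trans_V` for
`r` and `du r`). -/
theorem mu3 (h3 : Fintype.card ι = 3) : 2 < Nat.card (Zt (P ⊓ r.range)) ∧ P ⊓ r.range ≤
    closure {x | x ∈ P ⊓ r.range ∧ ∃ l ∈ r.range, l * x * l⁻¹ ∈ Zt (P ⊓ r.range)} := by
  rw [h.Z_eq, h.card_Z]
  refine ⟨h.hq.resolve_right (by omega), fun x hx => ?_⟩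
  obtain ⟨g, hg, rfl⟩ := h.lb_U hx
  obtain ⟨φ, v, h1, h2, rfl⟩ := h.toFg.nf3 h3 hg
  have m1 : r (tv e φ) ∈ Vg r e := mem_Vg.2 ⟨φ, h1, rfl⟩
  have m2 : r (tv v ε) ∈ Vg (StdL.du r) ε := mem_Vg'.2 ⟨v, h2, rfl⟩
  rw [map_mul]
  refine mul_mem (subset_closure ⟨h.WT m1, h.lb_cjW m1⟩) (subset_closure ⟨h.WT' m2, ?_⟩)
  have := h.du.lb_cjW m2
  rwa [range_du, Zr_du] at this

/-- PROOF. `K = ⁅T, T⁆` contains `r (tv e φ)` for `φ` killing `e, f` (`Out.tv_cmt` with `tv e χ`,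
`χ ⬝ᵥ f = 1`, and `tv f φ`, `tvl`) and dually `r (tv u ε)` for `u ∈ ker ε ⊓ ker η`.  `p ∈ P ⊓ C(K)`
normalises `W` (otherwise `r (tv e η) ∈ W ⊓ W'`, `ηf`) and centralises `Z ≤ K` (`c2`): `p = r(l) c`
(`inner`), `l ∈ U` commutes with these transvections (`Rp.comm`), `comm4`; so
`⁅p, p'⁆ = ⁅c, c'⁆ ∈ C(L)`. -/
theorem mu4 (h4 : 4 ≤ Fintype.card ι) : ⁅P ⊓ 𝐂[⁅P ⊓ r.range, P ⊓ r.range⁆],
    P ⊓ 𝐂[⁅P ⊓ r.range, P ⊓ r.range⁆]⁆ ≤ 𝐂[r.range] := by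
  have key : ∀ p ∈ P ⊓ 𝐂[⁅P ⊓ r.range, P ⊓ r.range⁆], ∃ l ∈ U, ∃ c ∈ 𝐂[r.range], p = r l * c ∧
      (∀ φ, φ ⬝ᵥ e = 0 → φ ⬝ᵥ f = 0 → l * tv e φ = tv e φ * l) ∧
      ∀ v, ε ⬝ᵥ v = 0 → η ⬝ᵥ v = 0 → l * tv v ε = tv v ε * l := by
    intro p hp
    have pN : p ∈ 𝐍[Vg r e] := by
      by_contra pN
      have m : r (tv e η) ∈ Vg r e := mem_Vg.2 ⟨η, h.toFg.ηe, rfl⟩
      obtain ⟨c, hc⟩ := (h.tv_Z h.toFg.ηe).1 (h.lb_out hp.1 pN m (by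
        rwa [← hp.2 _ (h.lb_K h.toFg.ηe (h.toFg.ηf h4)), mul_inv_cancel_right]))
      exact h.η0 c hc
    obtain ⟨a, ha, c, hc, rfl⟩ := h.inner hp.1 pN (centralizer_anti (h.Z_eq ▸ h.c2) hp.2)
    obtain ⟨l, hl, rfl⟩ := h.lb_U ha
    have k : ∀ a b : ι → F, r (tv a b) ∈ ⁅P ⊓ r.range, P ⊓ r.range⁆ → l * tv a b = tv a b * l := by
      intro a b m
      refine h.toRp.comm (k := 1) (by rw [pow_one, sq, tv_sq]) (mul_right_cancel (b := c) ?_)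
      rw [mul_assoc, hc.2 _ ⟨_, rfl⟩, ← mul_assoc, ← hp.2 _ m, mul_assoc]
    refine ⟨l, hl, c, hc.2, rfl, fun φ c1 c2 => k _ _ (h.lb_K c1 c2), fun v c1 c2 => k _ _ ?_⟩
    have := h.du.lb_K (φ := v) (by rwa [dotProduct_comm]) (by rwa [dotProduct_comm])
    rwa [range_du, du_tv] at this
  refine commutator_le.2 fun p hp p' hp' => ?_
  obtain ⟨l, hl, c, hc, rfl, a1, a2⟩ := key p hp
  obtain ⟨l', hl', c', hc', rfl, b1, b2⟩ := key p' hp'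
  have e1 := h.toFg.comm4 h4 hl hl' a1 a2 b1 b2
  have e2 : r l * c * (r l' * c') = r (l * l') * (c * c') := by
    rw [mul_assoc, ← mul_assoc c, ← hc _ ⟨l', rfl⟩, map_mul]; simp only [mul_assoc]
  have e3 : r l' * c' * (r l * c) = r (l * l') * (c' * c) := by
    rw [mul_assoc, ← mul_assoc c', ← hc' _ ⟨l, rfl⟩, e1, map_mul]; simp only [mul_assoc]
  rw [commutatorElement_def, mul_assoc, ← _root_.mul_inv_rev, e2, e3, _root_.mul_inv_rev,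
    ← mul_assoc, mul_assoc (r _)]
  exact conj_mem_of_mem_normalizer (normalizer_le_normalizer_centralizer _ (le_normalizer ⟨_, rfl⟩))
    (mul_mem (mul_mem hc hc') (inv_mem (mul_mem hc' hc)))

theorem loc : Loc r.range P where
  c1 := fun _ => h.c1
  c2 := h.c2
  zf := fun _ => h.zf
  h4 := h.h4
  gr := fun a b _ => h.gr a b
  zc := h.zc
  mu := by
    rcases h.three.eq_or_lt with e3 | e4
    · exact .inl (h.mu3 e3.symm)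
    · have hn : P ≤ 𝐍[P ⊓ r.range] := le_normalizer_inf le_normalizer h.nL
      exact .inr ⟨_, h.c2, le_rfl, le_normalizer_commutator hn hn, h.mu4 e4⟩

end Lo

theorem Rp.loc (h : Rp r) (hP : IsPGroup 2 P) (nL : P ≤ 𝐍[r.range])
    (hs : IsSyl 2 (P ⊓ r.range) r.range) : Loc r.range P := by
  obtain ⟨U, e, f, ε, η, l⟩ := exists_lo h hP nL hs
  exact l.loc

end Cfsg.Agent.StdL
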