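import Cfsg.Agent.StdL.Jr
import Cfsg.Agent.StdL.Syl1
import Cfsg.Agent.WfS.Def

/-! Sylow `2`-subgroups of `SL`: definitions. -/

set_option autoImplicit false
set_option linter.unusedSectionVars false

namespace Cfsg.Agent.StdL

open Matrix Subgroup Cfsg.Agent.LnT Cfsg.Agent.PLocal.Amb
open scoped commutatorElement

variable {F ι G : Type*} [Field F] [Fintype ι] [DecidableEq ι] [Group G]

/-- A Sylow `2`-subgroup `U` of `SL` with both ends of its flag: `⟨e⟩ < ⟨e, f⟩`, `⟨ε⟩ < ⟨ε, η⟩`. -/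
structure Fg (U : Subgroup (SpecialLinearGroup ι F)) (e f ε η : ι → F) : Prop where
  three : 3 ≤ Fintype.card ι
  syl : IsSyl 2 U ⊤
  e0 : e ≠ 0
  f0 : ∀ a : F, f ≠ a • e
  ε0 : ε ≠ 0
  η0 : ∀ a : F, η ≠ a • ε
  fe : ∀ g ∈ U, g.1 *ᵥ e = e
  ff : ∀ g ∈ U, ∃ a : F, g.1 *ᵥ f = f + a • e
  fε : ∀ g ∈ U, ε ᵥ* g.1 = ε
  fη : ∀ g ∈ U, ∃ a : F, η ᵥ* g.1 = η + a • ε

/-- the root group `Z = W ⊓ W'` -/
def Zr (r : SpecialLinearGroup ι F →* G) (e ε : ι → F) : Subgroup G := Vg r e ⊓ Vg (du r) ε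

/-- A `2`-group `P ≤ N(L)` with `P ⊓ L = r(U)`. -/
structure Lo (r : SpecialLinearGroup ι F →* G) (P : Subgroup G)
    (U : Subgroup (SpecialLinearGroup ι F)) (e f ε η : ι → F) : Prop extends Rp r, Fg U e f ε η where
  pg : IsPGroup 2 P
  nL : P ≤ 𝐍[r.range]
  map : U.map r = P ⊓ r.range

theorem Zr_du (r : SpecialLinearGroup ι F →* G) (e ε : ι → F) : Zr (du r) ε e = Zr r e ε := by
  rw [Zr, Zr, du_du, inf_comm]

end Cfsg.Agent.StdL
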