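import Cfsg.Agent.StdL.LoD
import Cfsg.Agent.StdL.OutA

/-! Sylow `2`-subgroups of `SL`: linear algebra.  `ℓ = ⟨e, f⟩`. -/

set_option autoImplicit false
set_option linter.unusedSectionVars false

namespace Cfsg.Agent.StdL

open Matrix Subgroup Cfsg.Agent.LnT Cfsg.Agent.PLocal.Amb Cfsg.Agent.WfS
open scoped commutatorElement

variable {F ι : Type*} [Field F] [Fintype ι] [DecidableEq ι] [CharP F 2] [Finite F]
  {U : Subgroup (SpecialLinearGroup ι F)} {e f ε η u x φ ψ : ι → F} {g y : SpecialLinearGroup ι F}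

theorem fg_two (h3 : 3 ≤ Fintype.card ι) (hU : IsPGroup 2 U) : ∃ e f : ι → F, e ≠ 0 ∧
    (∀ a : F, f ≠ a • e) ∧ (∀ g ∈ U, g.1 *ᵥ e = e) ∧ ∀ g ∈ U, ∃ a : F, g.1 *ᵥ f = f + a • e := by
  have n : ∀ e : ι → F, F ∙ e ≠ ⊤ := fun e c => by
    obtain ⟨u, -, hu⟩ := Out.exists_11 h3 0 e
    obtain ⟨a, ha⟩ := Submodule.mem_span_singleton.1 (c ▸ Submodule.mem_top : u ∈ F ∙ e)
    exact hu a ha.symm
  obtain ⟨e, he, h1⟩ := jr_fix (W := ⊥) hU (fun g _ x hx => by simp [(Submodule.mem_bot F).1 hx])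
    (by simpa using n 0)
  have h1 : ∀ g ∈ U, g.1 *ᵥ e = e := fun g hg => dl_eq_zero.1 ((Submodule.mem_bot F).1 (h1 g hg))
  obtain ⟨f, hf, h2⟩ := jr_fix (W := F ∙ e) hU (fun g hg x hx => by
    obtain ⟨a, rfl⟩ := Submodule.mem_span_singleton.1 hx
    rwa [mulVec_smul, h1 g hg]) (n e)
  refine ⟨e, f, by simpa using he, fun a c => hf (Submodule.mem_span_singleton.2 ⟨a, c.symm⟩), h1,
    fun g hg => ?_⟩
  obtain ⟨a, ha⟩ := Submodule.mem_span_singleton.1 (h2 g hg)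
  exact ⟨a, by rw [mulVec_dl, ha]⟩

theorem fg_mem (hg : g ∈ U) : tr g ∈ U.map (tr : SpecialLinearGroup ι F ≃* _).toMonoidHom :=
  mem_map_of_mem _ hg

theorem fg_mem' (hg : g ∈ U.map (tr : SpecialLinearGroup ι F ≃* _).toMonoidHom) : tr g ∈ U := by
  obtain ⟨k, hk, rfl⟩ := hg
  exact (tr_tr k).symm ▸ hk

theorem fg_act (h1 : φ ⬝ᵥ e = 0) (h2 : ε ⬝ᵥ x = 0) (v : ι → F) : (tv e φ * tv x ε).1 *ᵥ v =
    v + (ε ⬝ᵥ v) • x + (φ ⬝ᵥ v + (ε ⬝ᵥ v) * (φ ⬝ᵥ x)) • e := by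
  rw [mul_mulVec', tv_mulVec h1, tv_mulVec h2, dotProduct_add, dotProduct_smul, smul_eq_mul]

theorem fg_uniq {x' φ' : ι → F} (he : e ≠ 0) (hε : ε ≠ 0) (h1 : φ ⬝ᵥ e = 0) (h2 : ε ⬝ᵥ x = 0)
    (h1' : φ' ⬝ᵥ e = 0) (h2' : ε ⬝ᵥ x' = 0) (q : tv e φ * tv x ε = tv e φ' * tv x' ε) :
    (∃ a : F, x = x' + a • e) ∧ ∃ a : F, φ = φ' + a • ε := by
  have k := fun v => (fg_act h1 h2 v).symm.trans (q ▸ fg_act h1' h2' v)
  constructor
  · obtain ⟨v, hv⟩ := exists_dot0 hε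
    have := k v
    rw [dotProduct_comm ε v, hv, one_smul, one_smul, add_assoc, add_assoc, add_right_inj] at this
    exact ⟨_, by rw [sub_smul, ← add_sub_assoc, ← this, add_sub_cancel_right]⟩
  · obtain ⟨a, ha⟩ := smul_of_dot (e := ε) (u := φ - φ') fun v hv => by
      have := k v
      simp only [dotProduct_comm ε v, hv, zero_smul, zero_mul, add_zero, add_right_inj] at this
      rw [dotProduct_comm, sub_dotProduct, smul_left_injective F he this, sub_self]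
    exact ⟨a, by rw [← ha, add_sub_cancel]⟩

/-- PROOF. `jr_fix` for `W = ⊥`, then `W = F ∙ e`; the same for `U.map tr` (`tr_mulVec`). -/
theorem exists_fg (h3 : 3 ≤ Fintype.card ι) (hU : IsSyl 2 U ⊤) : ∃ e f ε η, Fg U e f ε η := by
  obtain ⟨e, f, a1, a2, a3, a4⟩ := fg_two h3 hU.pgrp
  obtain ⟨ε, η, b1, b2, b3, b4⟩ := fg_two h3
    (hU.pgrp.map (tr : SpecialLinearGroup ι F ≃* _).toMonoidHom)
  refine ⟨e, f, ε, η, h3, hU, a1, a2, b1, b2, a3, a4, fun g hg => ?_, fun g hg => ?_⟩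
  · simpa only [tr_mulVec, inv_inv] using b3 _ (fg_mem (inv_mem hg))
  · simpa only [tr_mulVec, inv_inv] using b4 _ (fg_mem (inv_mem hg))

namespace Fg
variable (h : Fg U e f ε η)
include h

theorem du : Fg (U.map (tr : SpecialLinearGroup ι F ≃* _).toMonoidHom) ε η e f := by
  refine ⟨h.three, ?_, h.ε0, h.η0, h.e0, h.f0, fun g hg => ?_, fun g hg => ?_, fun g hg => ?_,
    fun g hg => ?_⟩
  · have := h.syl.map (tr : SpecialLinearGroup ι F ≃* _).toMonoidHom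
    rwa [map_top_of_surjective _ tr.surjective] at this
  · rw [← tr_tr g, tr_mulVec]; exact h.fε _ (inv_mem (fg_mem' hg))
  · rw [← tr_tr g, tr_mulVec]; exact h.fη _ (inv_mem (fg_mem' hg))
  · rw [← tr_tr g, vecMul_tr]; exact h.fe _ (inv_mem (fg_mem' hg))
  · rw [← tr_tr g, vecMul_tr]; exact h.ff _ (inv_mem (fg_mem' hg))

/-- PROOF. `U` stabilises `M`, so normalises the `2`-group `Rd M M` (`norm_Rd`, `el_Rd`);
`IsSyl.le_of_le_normalizer`. -/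
theorem Rd_le {M : Submodule F (ι → F)} (hM : ∀ g ∈ U, Stb M g) : Rd M M ≤ U :=
  h.syl.le_of_le_normalizer (pgrp_of_sq (el_Rd M M)) le_top fun g hg => norm_Rd (hM g hg) (hM g hg)

/-- `Rd_le` for `F ∙ e`, `jr_tv` -/
theorem tvW (h1 : φ ⬝ᵥ e = 0) : tv e φ ∈ U :=
  h.Rd_le (M := F ∙ e) (fun g hg x hx => by
    obtain ⟨a, rfl⟩ := Submodule.mem_span_singleton.1 hx
    rwa [mulVec_smul, h.fe g hg]) (jr_tv le_rfl (Submodule.mem_span_singleton_self e) fun x hx => by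
    obtain ⟨a, rfl⟩ := Submodule.mem_span_singleton.1 hx
    simp [h1])

/-- dual of `tvW` -/
theorem tvW' (h1 : ε ⬝ᵥ u = 0) : tv u ε ∈ U :=
  tr_tv ε u ▸ fg_mem' (h.du.tvW (by rwa [dotProduct_comm]))

/-- `Rd_le` for `ℓ` -/
theorem tvl (h1 : ψ ⬝ᵥ e = 0) (h2 : ψ ⬝ᵥ f = 0) : tv f ψ ∈ U :=
  h.Rd_le (M := Submodule.span F {e, f}) (fun g hg x hx => by
    obtain ⟨a, b, rfl⟩ := Submodule.mem_span_pair.1 hx
    obtain ⟨c, hc⟩ := h.ff g hg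
    exact Submodule.mem_span_pair.2 ⟨a + b * c, b, by
      rw [mulVec_add, mulVec_smul, mulVec_smul, h.fe g hg, hc]; module⟩)
    (jr_tv le_rfl (Submodule.subset_span (by simp)) fun x hx => by
    obtain ⟨a, b, rfl⟩ := Submodule.mem_span_pair.1 hx
    simp [h1, h2])

/-- dual of `tvl` -/
theorem tvl' (h1 : ε ⬝ᵥ u = 0) (h2 : η ⬝ᵥ u = 0) : tv u η ∈ U :=
  tr_tv η u ▸ fg_mem' (h.du.tvl (by rwa [dotProduct_comm]) (by rwa [dotProduct_comm]))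

/-- `tv e φ` (`φ ≠ 0`) fixes `ε` -/
theorem εe : ε ⬝ᵥ e = 0 := by
  obtain ⟨φ, a, -, b⟩ := Out.exists_20 h.three e e
  rw [dotProduct_comm] at a
  have := h.fε _ (h.tvW a)
  rw [vecMul_tv a, add_eq_left, smul_eq_zero] at this
  exact this.resolve_right b

/-- `tv f ψ` (`ψ ≠ 0`, `Out.exists_20`) fixes `ε` -/
theorem εf : ε ⬝ᵥ f = 0 := by
  obtain ⟨φ, a, a', b⟩ := Out.exists_20 h.three e f
  rw [dotProduct_comm] at a a'
  have := h.fε _ (h.tvl a a')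
  rw [vecMul_tv a', add_eq_left, smul_eq_zero] at this
  exact this.resolve_right b

theorem ηe : η ⬝ᵥ e = 0 := (dotProduct_comm _ _).trans h.du.εf

/-- `η ᵥ* tv f ψ = η + (η ⬝ᵥ f) ψ`, take `ψ ∉ F ε` (`exists_21`) -/
theorem ηf (h4 : 4 ≤ Fintype.card ι) : η ⬝ᵥ f = 0 := by
  obtain ⟨φ, a, a', b⟩ := exists_21 h4 e f ε
  rw [dotProduct_comm] at a a'
  obtain ⟨c, hc⟩ := h.fη _ (h.tvl a a')
  rw [vecMul_tv a', add_right_inj] at hc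
  by_contra n
  exact b ((η ⬝ᵥ f)⁻¹ * c) (by rw [mul_smul, ← hc, inv_smul_smul₀ n])

/-- vectors fixed by all `tv e φ` are multiples of `e` (`smul_of_dot`) -/
theorem fix1 (hx : ∀ g ∈ U, g.1 *ᵥ x = x) : ∃ a : F, x = a • e :=
  smul_of_dot fun θ a => by
    have := hx _ (h.tvW a)
    rw [tv_mulVec a, add_eq_left, smul_eq_zero] at this
    exact this.resolve_right h.e0

/-- use the `tv f ψ`, `span2_of_dot` -/
theorem fix2 (hx : ∀ g ∈ U, ∃ a : F, g.1 *ᵥ x = x + a • e) : ∃ a b : F, x = a • e + b • f :=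
  span2_of_dot fun θ a b => by
    obtain ⟨c, hc⟩ := hx _ (h.tvl a b)
    rw [tv_mulVec b, add_right_inj] at hc
    by_contra n
    exact h.f0 ((θ ⬝ᵥ x)⁻¹ * c) (by rw [mul_smul, ← hc, inv_smul_smul₀ n])

/-- for `n = 3`, `ker ε = ℓ` -/
theorem ker3 (h3 : Fintype.card ι = 3) (hx : ε ⬝ᵥ x = 0) : ∃ a b : F, x = a • e + b • f := by
  by_contra n
  push Not at n
  obtain ⟨ψ, a1, a2, a3⟩ := exists_dot2 n
  obtain ⟨v, hv⟩ := exists_dot0 h.ε0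
  rw [dotProduct_comm] at hv
  have : LinearIndependent F ![e, f, x, v] := Fintype.linearIndependent_iff.2 fun c hc => by
    simp only [Fin.sum_univ_four, cons_val_zero, cons_val_one, cons_val] at hc
    have c3 : c 3 = 0 := by simpa [h.εe, h.εf, hx, hv] using congrArg (ε ⬝ᵥ ·) hc
    have c2 : c 2 = 0 := by simpa [a1, a2, a3, c3] using congrArg (ψ ⬝ᵥ ·) hc
    have := indep_eq h.e0 h.f0 (a := c 0) (b := c 1) (by simpa [c2, c3] using hc)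
    intro i; fin_cases i
    exacts [this.1, this.2, c2, c3]
  have := this.fintype_card_le_finrank
  simp [h3] at this

/-- normal form in `Q = W W'`.  PROOF. `ε ⬝ᵥ v₀ = 1`, `x = dl y v₀` (`ε ⬝ᵥ x = 0` by `fε`); the map
`v ↦ dl y v - (ε ⬝ᵥ v) x` has values in `F e` (`exists_dot_of_range`), `= (φ ⬝ᵥ v) e`; `φ ⬝ᵥ e = 0` by
`fe`.  `tv e φ * tv x ε` maps `v` to `v + (ε v) x + (φ v + (ε v)(φ x)) e`; replace `φ` by
`φ + (φ x) ε`. -/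
theorem nf (hy : y ∈ U) (hv : ∀ v, ε ⬝ᵥ v = 0 → ∃ a : F, y.1 *ᵥ v = v + a • e) :
    ∃ φ x, φ ⬝ᵥ e = 0 ∧ ε ⬝ᵥ x = 0 ∧ y = tv e φ * tv x ε := by
  obtain ⟨v, h0⟩ := exists_dot0 h.ε0
  rw [dotProduct_comm] at h0
  have hx : ε ⬝ᵥ dl y *ᵥ v = 0 := jr_dl_dot (h.fε y hy) v
  obtain ⟨ρ, hρ⟩ := exists_dot_of_range (A := dl y - vecMulVec (dl y *ᵥ v) ε) h.e0 fun θ a =>
    dext fun w => by
      obtain ⟨c, hc⟩ := hv (w - (ε ⬝ᵥ w) • v) (by simp [h0])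
      rw [mulVec_dl, add_right_inj, mulVec_sub, mulVec_smul] at hc
      rw [vecMul_dot, sub_mulVec, vv_mulVec, hc]; simp [a]
  simp only [sub_mulVec, vv_mulVec] at hρ
  have r : ρ ⬝ᵥ e = 0 := by
    have := hρ e
    rw [dl_eq_zero.2 (h.fe y hy), h.εe, zero_smul, sub_self, eq_comm, smul_eq_zero] at this
    exact this.resolve_right h.e0
  have r' : (ρ + (ρ ⬝ᵥ dl y *ᵥ v) • ε) ⬝ᵥ e = 0 := by simp [r, h.εe]
  refine ⟨_, _, r', hx, slext fun w => ?_⟩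
  rw [fg_act r' hx, mulVec_dl, sub_eq_iff_eq_add'.1 (hρ w), add_assoc]
  congr 3
  simp only [add_dotProduct, smul_dotProduct, hx, smul_eq_mul, mul_zero, add_zero]
  rw [add_assoc, mul_comm, CharTwo.add_self_eq_zero, add_zero]

/-- for `n = 3`, `U = W W'` (`ker3`, `nf`) -/
theorem nf3 (h3 : Fintype.card ι = 3) (hy : y ∈ U) :
    ∃ φ x, φ ⬝ᵥ e = 0 ∧ ε ⬝ᵥ x = 0 ∧ y = tv e φ * tv x ε := h.nf hy fun v hv => by
  obtain ⟨a, b, rfl⟩ := h.ker3 h3 hv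
  obtain ⟨c, hc⟩ := h.ff y hy
  exact ⟨b * c, by rw [mulVec_add, mulVec_smul, mulVec_smul, h.fe y hy, hc]; module⟩

/-- PROOF. `y` fixes every `φ` killing `ℓ` (`vecMul_of_comm`, `fe`), so `im (dl y) ≤ ℓ`
(`span2_of_dot`); `y` fixes `e, f ∈ ker ε ⊓ ker η` (`mulVec_of_comm`, `ηf`).  So `dl y dl y' = 0`,
`comm_of_dl`. -/
theorem comm4 (h4 : 4 ≤ Fintype.card ι) {y' : SpecialLinearGroup ι F} (hy : y ∈ U) (hy' : y' ∈ U)
    (a1 : ∀ φ, φ ⬝ᵥ e = 0 → φ ⬝ᵥ f = 0 → y * tv e φ = tv e φ * y)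
    (a2 : ∀ u, ε ⬝ᵥ u = 0 → η ⬝ᵥ u = 0 → y * tv u ε = tv u ε * y)
    (b1 : ∀ φ, φ ⬝ᵥ e = 0 → φ ⬝ᵥ f = 0 → y' * tv e φ = tv e φ * y')
    (b2 : ∀ u, ε ⬝ᵥ u = 0 → η ⬝ᵥ u = 0 → y' * tv u ε = tv u ε * y') : y * y' = y' * y := by
  have key : ∀ {y y' : SpecialLinearGroup ι F}, y ∈ U → y' ∈ U →
      (∀ φ, φ ⬝ᵥ e = 0 → φ ⬝ᵥ f = 0 → y * tv e φ = tv e φ * y) →
      (∀ u, ε ⬝ᵥ u = 0 → η ⬝ᵥ u = 0 → y' * tv u ε = tv u ε * y') →
      ∀ x, dl y' *ᵥ dl y *ᵥ x = 0 := fun {y y'} hy hy' a b x => by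
    obtain ⟨c, d, q⟩ := span2_of_dot (e := e) (f := f) (u := dl y *ᵥ x) fun θ t1 t2 =>
      jr_dl_dot ((vecMul_of_comm t1 h.e0 (a := 1) (by rw [h.fe y hy, one_smul])
        (a θ t1 t2)).trans (one_smul _ _)) x
    have := (mulVec_of_comm h.εf h.ε0 (a := 1) (by rw [h.fε y' hy', one_smul])
      (b f h.εf (h.ηf h4))).trans (one_smul _ _)
    rw [q, mulVec_add, mulVec_smul, mulVec_smul, dl_eq_zero.2 this, dl_eq_zero.2 (h.fe y' hy')]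
    simp
  exact comm_of_dl fun x => by rw [key hy hy' a1 b2, key hy' hy b1 a2]

/-- The key lemma for graph automorphisms; `Z = {tv e (c ε)}`, `[g, y] = g y g⁻¹ y⁻¹`.
PROOF. For `ε v = 0`, `[tv v ε, y] = tv (v + y v) ε ∈ W'` lies in `Z` by `b2`, so `y v ∈ v + F e`
(`tv_inj'`), `y = tv e φ * tv x ε` (`nf`).  For `g ∈ U`: `g y g⁻¹ = tv e (φ g⁻¹) * tv (g x) ε`.  If
`g x ∈ x + F e` then `[g, y] ∈ W`, so in `Z` by `b1`.  Conversely `g y g⁻¹ = tv e (c ε) * y'` with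
`y' = k y k⁻¹` forces `g x ∈ k x + F e` (apply to `v₀`, `ε v₀ = 1`) and `φ g⁻¹ ∈ φ k⁻¹ + F ε` (apply to
`ker ε`).  If `x ∈ ℓ` we are done by `ff`.  Otherwise use `g_ψ = tv f ψ` (`tvl`):
`g_ψ x = x + (ψ x) f`, `φ g_ψ⁻¹ = φ + (φ f) ψ`; take `ψ x = 1` (`exists_dot2`), `[g_ψ, y] ∉ Z`.
`q > 2`: `a ≠ 0, 1`, `[g_{aψ}, y] ∉ Z`, `b3` gives `a f ∈ f + F e`, false.  `n ≥ 5`: `φ f ≠ 0` (otherwise
`[g_ψ, y] ∈ W'`, so in `Z` by `b2`); take `χ ∉ F ε` killing `e, f, x` (`exists_31`): `[g_χ, y] ∈ Z`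
gives `(φ f) χ ∈ F ε`, false. -/
theorem key (hq : 2 < Nat.card F ∨ 5 ≤ Fintype.card ι) (hy : y ∈ U)
    (b1 : ∀ g ∈ U, ∀ φ, φ ⬝ᵥ e = 0 → g * y * g⁻¹ * y⁻¹ = tv e φ →
      ∃ c : F, g * y * g⁻¹ * y⁻¹ = tv e (c • ε))
    (b2 : ∀ g ∈ U, ∀ u, ε ⬝ᵥ u = 0 → g * y * g⁻¹ * y⁻¹ = tv u ε →
      ∃ c : F, g * y * g⁻¹ * y⁻¹ = tv e (c • ε))
    (b3 : ∀ g ∈ U, ∀ k ∈ U, (∃ c : F, g * y * g⁻¹ * y⁻¹ = tv e (c • ε)) ∨
      (∃ c : F, k * y * k⁻¹ * y⁻¹ = tv e (c • ε)) ∨ ∃ c : F, g * y * g⁻¹ = tv e (c • ε) * (k * y * k⁻¹))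
    (hg : g ∈ U) : ∃ c : F, g * y * g⁻¹ * y⁻¹ = tv e (c • ε) := by
  have ε1 : ∀ g ∈ U, ∀ v, ε ⬝ᵥ v = 0 → ε ⬝ᵥ g.1 *ᵥ v = 0 := fun g hg v hv => by
    rw [← vecMul_dot, h.fε g hg, hv]
  have e1 : ∀ g ∈ U, ∀ v, v ⬝ᵥ e = 0 → (v ᵥ* (g⁻¹).1) ⬝ᵥ e = 0 := fun g hg v hv => by
    rw [vecMul_dot, h.fe _ (inv_mem hg), hv]
  have ce : ∀ c : F, (c • ε) ⬝ᵥ e = 0 := fun c => by simp [h.εe]
  obtain ⟨φ, x, p1, p2, rfl⟩ := h.nf hy fun v hv => by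
    have q := ε1 y hy v hv
    have q' : ε ⬝ᵥ (v + y.1 *ᵥ v) = 0 := by rw [dotProduct_add, hv, q, add_zero]
    have r : tv v ε * y * (tv v ε)⁻¹ * y⁻¹ = tv (v + y.1 *ᵥ v) ε := by
      rw [add_tv hv q, tv_inv, mul_assoc (tv v ε), mul_assoc (tv v ε), tv_conj,
        h.fε _ (inv_mem hy)]
    obtain ⟨c, hc⟩ := b2 _ (h.tvW' hv) _ q' r
    rw [r, ← tv_smul c h.εe] at hc
    exact ⟨c, by rw [← tv_inj' h.ε0 q' (by simp [h.εe]) hc, ← add_assoc, vadd_self, zero_add]⟩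
  have cy : ∀ g ∈ U, g * (tv e φ * tv x ε) * g⁻¹ = tv e (φ ᵥ* (g⁻¹).1) * tv (g.1 *ᵥ x) ε :=
    fun g hg => by
      rw [← conj_mul, tv_conj, tv_conj, h.fe g hg, h.fε _ (inv_mem hg)]
  have A : ∀ g ∈ U, ∀ a : F, g.1 *ᵥ x = x + a • e →
      ∃ c : F, g * (tv e φ * tv x ε) * g⁻¹ * (tv e φ * tv x ε)⁻¹ = tv e (c • ε) := fun g hg a q => by
    refine b1 g hg (φ ᵥ* (g⁻¹).1 + a • ε + φ) (by
      simp only [add_dotProduct, e1 g hg φ p1, ce, p1, add_zero]) ?_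
    rw [cy g hg, q, add_comm x, add_tv (by simp [h.εe]) p2, tv_smul a h.εe,
      tv_add (by simp only [add_dotProduct, e1 g hg φ p1, ce, add_zero]) p1,
      tv_add (e1 g hg φ p1) (ce a), _root_.mul_inv_rev, tv_inv e φ]
    group
  have B : ∀ g ∈ U, ∀ k ∈ U, ∀ c : F,
      g * (tv e φ * tv x ε) * g⁻¹ = tv e (c • ε) * (k * (tv e φ * tv x ε) * k⁻¹) →
      (∃ a : F, g.1 *ᵥ x = k.1 *ᵥ x + a • e) ∧
        ∃ a : F, φ ᵥ* (g⁻¹).1 = c • ε + φ ᵥ* (k⁻¹).1 + a • ε := fun g hg k hk c q => by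
    rw [cy g hg, cy k hk, ← mul_assoc, ← tv_add (ce c) (e1 k hk φ p1)] at q
    exact fg_uniq h.e0 h.ε0 (e1 g hg φ p1) (ε1 g hg x p2) (by
      simp only [add_dotProduct, e1 k hk φ p1, ce, add_zero])
      (ε1 k hk x p2) q
  have B' : ∀ g ∈ U, (∃ c : F, g * (tv e φ * tv x ε) * g⁻¹ * (tv e φ * tv x ε)⁻¹ = tv e (c • ε)) →
      (∃ a : F, g.1 *ᵥ x = x + a • e) ∧ ∃ a : F, φ ᵥ* (g⁻¹).1 = φ + a • ε := fun g hg ⟨c, q⟩ => by
    obtain ⟨a, b, hb⟩ := B g hg 1 (one_mem _) c (by rw [← q]; group)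
    exact ⟨by simpa using a, c + b, by rw [hb, add_smul]; simp [add_comm, add_assoc]⟩
  by_cases n : ∃ a b : F, x = a • e + b • f
  · obtain ⟨a, b, rfl⟩ := n
    obtain ⟨c, hc⟩ := h.ff g hg
    exact A g hg (b * c) (by rw [mulVec_add, mulVec_smul, mulVec_smul, h.fe g hg, hc]; module)
  exfalso
  push Not at n
  obtain ⟨ψ, s1, s2, s3⟩ := exists_dot2 n
  have nf : ∀ a b : F, a ≠ 0 → a • f ≠ b • e := fun a b n c =>
    h.f0 (a⁻¹ * b) (by rw [mul_smul, ← c, inv_smul_smul₀ n])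
  have m : ∀ a : F, tv f (a • ψ) ∈ U := fun a => h.tvl (by simp [s2]) (by simp [s3])
  have mx : ∀ a : F, (tv f (a • ψ)).1 *ᵥ x = x + a • f := fun a => by
    rw [tv_mulVec (by simp [s3])]; simp [s1]
  have N : ∀ a : F, a ≠ 0 → ¬ ∃ c : F, tv f (a • ψ) * (tv e φ * tv x ε) * (tv f (a • ψ))⁻¹ *
      (tv e φ * tv x ε)⁻¹ = tv e (c • ε) := fun a n c => by
    obtain ⟨b, hb⟩ := (B' _ (m a) c).1
    rw [mx, add_right_inj] at hb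
    exact nf a b n hb
  rcases hq with hq | hq
  · obtain ⟨a, a0, a1⟩ : ∃ a : F, a ≠ 0 ∧ a ≠ 1 := by
      by_contra c
      push Not at c
      have := Nat.card_le_card_of_surjective (fun b : Bool => if b then (1 : F) else 0) fun a =>
        (em (a = 0)).elim (fun q => ⟨false, q.symm⟩) fun q => ⟨true, (c a q).symm⟩
      simp at this; omega
    obtain ⟨c, hc⟩ := ((b3 _ (m a) _ (m 1)).resolve_left (N a a0)).resolve_left (N 1 one_ne_zero)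
    obtain ⟨b, hb⟩ := (B _ (m a) _ (m 1) c hc).1
    rw [mx, mx, add_assoc, add_right_inj] at hb
    exact nf (a - 1) b (sub_ne_zero.2 a1) (by rw [sub_smul, hb, add_sub_cancel_left])
  · have n : φ ⬝ᵥ f ≠ 0 := fun n => N 1 one_ne_zero (b2 _ (m 1) f h.εf (by
      rw [cy _ (m 1), mx, tv_inv, vecMul_tv (by simp [s3]), n, zero_smul, add_zero, one_smul,
        add_comm x, add_tv h.εf p2, ← mul_assoc, _root_.mul_inv_rev, ← mul_assoc, mul_inv_cancel_right,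
        tv_conj, tv_mulVec p1, n, zero_smul, add_zero, h.fε _ (inv_mem (h.tvW p1))]))
    obtain ⟨χ, t1, t2, t3, t4⟩ := exists_31 hq e f x ε
    rw [dotProduct_comm] at t1 t2 t3
    obtain ⟨a, ha⟩ := (B' _ (h.tvl t1 t2) (A _ (h.tvl t1 t2) 0 (by rw [tv_mulVec t2, t3]; simp))).2
    rw [tv_inv, vecMul_tv t2, add_right_inj] at ha
    exact t4 ((φ ⬝ᵥ f)⁻¹ * a) (by rw [mul_smul, ← ha, inv_smul_smul₀ n])

end Fg

end Cfsg.Agent.StdL
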