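import Cfsg.Agent.StdL.LoB
import Cfsg.Agent.StdL.UfB
import Cfsg.Agent.WfS.Perm0
import Cfsg.Agent.Class.Asch.SLProp

/-! The split case gives the hypotheses of the wreath theorem. -/

set_option autoImplicit false
set_option linter.unusedSectionVars false

namespace Cfsg.Agent.StdL

open Matrix Subgroup Cfsg.Agent.LnT Cfsg.Agent.PLocal.Amb Cfsg.Agent.WfS
open scoped commutatorElement

variable {F ι G : Type*} [Field F] [Fintype ι] [DecidableEq ι] [Group G] [CharP F 2] [Finite F]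
  [Finite G] {r r' r₁ : SpecialLinearGroup ι F →* G} {t : G}

theorem Rp.qs (h : Rp r) {K : Subgroup G} (h1 : K ≤ r.range) (h2 : r.range ≤ 𝐍[K]) :
    K ≤ 𝐂[r.range] ∨ K = r.range := by
  have hn : (K.comap r).Normal := ⟨fun a ha g => by
    rw [mem_comap, map_mul, map_mul, map_inv]
    exact conj_mem_of_mem_normalizer (h2 ⟨g, rfl⟩) ha⟩
  refine (Class.Asch.le_center_or_eq_top_of_simple (Class.SL_commutator_eq_top h.three)
    (Class.PSL_isSimpleGroup h.three) _ hn).imp (fun e k hk => ?_) fun e => h1.antisymm ?_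
  · obtain ⟨x, rfl⟩ := h1 hk
    rintro _ ⟨y, rfl⟩
    rw [← map_mul, ← map_mul, mem_center_iff.1 (e hk)]
  · rintro _ ⟨x, rfl⟩
    exact e.ge (mem_top x)

theorem Rp.range_eq (h : Rp r) (h' : Rp r') (le : r.range ≤ r'.range) : r.range = r'.range := by
  choose y hy using fun x => le ⟨x, rfl⟩
  have e : ∀ {a b}, r' a = r' b → (a : ProjectiveSpecialLinearGroup ι F) = b := fun {a b} e =>
    QuotientGroup.eq.2 (h'.ker _ (by rw [map_mul, map_inv, e, inv_mul_cancel]))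
  let f : SpecialLinearGroup ι F →* ProjectiveSpecialLinearGroup ι F :=
    MonoidHom.mk' (fun x => y x) fun a b => e (by rw [map_mul, hy, hy, hy, map_mul])
  have hk : f.ker ≤ center _ := fun x hx => h.mem_center fun z => by
    have : y x ∈ center _ := (QuotientGroup.eq_one_iff _).1 hx
    rw [← hy x, ← hy z, ← map_mul, ← map_mul, mem_center_iff.1 this]
  have hs : f.range = ⊤ := eq_top_of_le_card _ (by
    rw [← index_ker]
    exact index_antitone hk)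
  refine le.antisymm (h'.perfect.ge.trans (commutator_le.2 ?_))
  rintro _ ⟨a, rfl⟩ _ ⟨b, rfl⟩
  obtain ⟨a', ha⟩ := hs.ge (mem_top (a : ProjectiveSpecialLinearGroup ι F))
  obtain ⟨b', hb⟩ := hs.ge (mem_top (b : ProjectiveSpecialLinearGroup ι F))
  have ha := mem_center_iff.1 (QuotientGroup.eq.1 ha)
  have hb := mem_center_iff.1 (QuotientGroup.eq.1 hb)
  refine ⟨⁅a', b'⁆, ?_⟩
  rw [map_commutatorElement, ← hy, ← hy, ← map_commutatorElement, ← map_commutatorElement]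
  congr 1
  generalize y a' = u at *
  generalize y b' = v at *
  obtain ⟨a, rfl⟩ : ∃ c, a = u * c := ⟨u⁻¹ * a, by group⟩
  obtain ⟨b, rfl⟩ : ∃ c, b = v * c := ⟨v⁻¹ * b, by group⟩
  simp only [inv_mul_cancel_left] at ha hb
  simp only [commutatorElement_def]
  calc _ = u * v * (b * (u⁻¹ * b⁻¹)) * v⁻¹ := by rw [← mul_assoc b, ← hb]; group
    _ = u * (v * b * a) * a⁻¹ * u⁻¹ * b⁻¹ * v⁻¹ := by group
    _ = _ := by rw [ha]; group

theorem wc_sub {g : G} (h : Rp r) (rp : Rp r') (eq : r'.range = (cjh g r).range) {H : Subgroup G}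
    (hW : ∀ e, e ≠ 0 → Wc (Vg r e) t ⊆ H) (hW' : ∀ e, e ≠ 0 → Wc (Vg (du r) e) t ⊆ H) {e : ι → F}
    (he : e ≠ 0) {w : G} (hw : w ∈ Wc (Vg r' e) (g * t * g⁻¹)) : w ∈ cj(g, H) := by
  obtain ⟨σ', T', S', hS', hc⟩ := (h.cjh g).same rp eq
  have he' : T' e ≠ 0 := (map_ne_zero_iff _ T'.injective).2 he
  have sur : ∀ φ, φ ⬝ᵥ T' e = 0 → ∃ ψ, ψ ⬝ᵥ e = 0 ∧ S' ψ = φ := fun φ e1 => by
    obtain ⟨ψ, rfl⟩ := S'.surjective φ
    exact ⟨ψ, by rwa [hS'.dot, map_eq_zero] at e1, rfl⟩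
  refine mem_cj.2 ?_
  rcases hc with hc | hc
  · refine hW _ he' (UB.wc_cj (?_ : w ∈ _))
    rw [← Vg_cjh]
    convert hw using 2
    ext x
    rw [mem_Vg, mem_Vg]
    constructor
    · rintro ⟨φ, e1, rfl⟩
      obtain ⟨ψ, e2, rfl⟩ := sur φ e1
      exact ⟨ψ, e2, hc _ _ e2⟩
    · rintro ⟨φ, e1, rfl⟩
      exact ⟨_, A.dot0 hS' e1, (hc _ _ e1).symm⟩
  · refine hW' _ he' (UB.wc_cj (?_ : w ∈ _))
    rw [← Vg_cjh, ← du_cjh]
    convert hw using 2
    ext x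
    rw [mem_Vg', mem_Vg]
    constructor
    · rintro ⟨φ, e1, rfl⟩
      obtain ⟨ψ, e2, rfl⟩ := sur φ ((dotProduct_comm _ _).trans e1)
      exact ⟨ψ, e2, hc _ _ e2⟩
    · rintro ⟨φ, e1, rfl⟩
      exact ⟨_, (dotProduct_comm _ _).trans (A.dot0 hS' e1), (hc _ _ e1).symm⟩

theorem Rp.ne (h : Rp r) : r.range ≠ ⊥ := fun e => by
  obtain ⟨u, hu⟩ := A.exists_ne h
  obtain ⟨φ, h1, h2⟩ := exists_11 h.three u u
  exact h.tv_ne_one h1 (by simpa using h2 0) hu (mem_bot.1 (e ▸ ⟨_, rfl⟩))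

theorem Spl.wf (h : Spl r t r₁) : Wf r₁.range cj(t, r₁.range) t := by
  have com : cj(t, r₁.range) ≤ 𝐂[r₁.range] := by
    rw [← range_cjh]
    rintro _ ⟨x, rfl⟩ _ ⟨y, rfl⟩
    exact h.com y x
  have G0e : G0 r₁ t = r₁.range ⊔ cj(t, r₁.range) := by rw [G0, range_cjh]
  have nc : ¬ r₁.range ≤ 𝐂[r₁.range] := fun e =>
    h.rp.ne (h.rp.perfect.symm.trans (commutator_eq_bot_iff_le_centralizer.2 e))
  have ti : t⁻¹ = t := inv_eq_of_mul_eq_one_right h.tt
  refine ⟨h.tt, rfl, com, h.rp.perfect, h.rp.ne, fun _ => h.rp.qs, fun k hk k2 kt => ?_,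
    fun g h1 h2 => ?_, fun _ => h.rp.loc⟩
  · have e : ∀ x, k * r₁ x = r₁ x * k := fun x => (hk _ ⟨x, rfl⟩).symm
    refine (h.toSu.inv (mem_K0.2 ⟨kt, fun x => ?_⟩) k2).resolve_right ?_
    · rw [h.dec, cjh_apply, ti, ← mul_assoc, e]
      simp only [mul_assoc]
      rw [← mul_assoc k, kt, mul_assoc, ← mul_assoc k, e, mul_assoc, kt]
    · rintro rfl
      exact nc ((cj_of_mem_normalizer (centralizer_le_normalizer' _ hk)).ge.trans com)
  have hs := h.toSu.cj g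
  set s := g * t * g⁻¹
  have si : s⁻¹ = s := inv_eq_of_mul_eq_one_right hs.tt
  have sw : cj(s, r₁.range) = cj(t, r₁.range) := (perm0 h.tt rfl com h.rp.perfect h.rp.ne
    (fun _ => h.rp.qs) h1).resolve_left fun e => h2 (cj_eq_iff.1 e)
  have cm : ∀ x y, Commute (r₁ x) (cjh s r₁ y) := fun x y =>
    com (sw.le (conj_mem_cj s ⟨y, rfl⟩)) _ ⟨x, rfl⟩
  let d : SpecialLinearGroup ι F →* G := MonoidHom.mk' (fun x => r₁ x * cjh s r₁ x) fun a b => by
    rw [map_mul, map_mul, (cm b a).symm.mul_mul_mul_comm]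
  have hd : ∀ x, d x = r₁ x * (s * r₁ x * s⁻¹) := fun _ => rfl
  have rp : Rp d := ⟨h.three, h.hq, fun x e => h.rp.mem_center fun y => by
    rw [eq_inv_of_mul_eq_one_left e]
    exact (cm y x).symm.inv_left⟩
  have ds : ∀ x, d x * s = s * d x := fun x => by
    have := (cm x x).eq
    rw [cjh_apply] at this
    rw [hd]
    nth_rw 2 [this]
    calc _ = r₁ x * s * r₁ x := by simp only [mul_assoc, inv_mul_cancel, mul_one]
      _ = s * s * r₁ x * s⁻¹ * r₁ x := by rw [hs.tt, si, one_mul]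
      _ = _ := by simp only [mul_assoc]
  have le : d.range ≤ (cjh g r).range := by
    have : (cjh g r).range.comap d = ⊤ := eq_top_of_tv _ fun u φ _ => hs.o2 (k := 1)
      (Od_mono (by
        rintro _ ⟨x, rfl⟩
        exact mem_centralizer_singleton_iff.2 (ds x)) (rp.range_le_Od ⟨_, rfl⟩))
      (by rw [pow_one, pow_two, ← map_mul, tv_sq, map_one])
    rintro _ ⟨x, rfl⟩
    exact this.ge (mem_top x)
  have L0 : r₁.range ≤ cj(g, G0 r₁ t) := by
    have : cj(g, G0 r₁ t).comap r₁ = ⊤ := eq_top_of_tv _ fun u φ e => by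
      by_cases hu : u = 0
      · rw [hu, zero_tv]; exact one_mem _
      refine wc_sub h.toRp rp (rp.range_eq (h.toRp.cjh g) le) h.hW h.hW' hu
        ⟨by rw [← map_mul, tv_sq, map_one], fun v hv => ?_, mem_Vg.2 ⟨φ, e, ?_⟩, fun hv => h2 ?_⟩
      · obtain ⟨ψ, e1, rfl⟩ := mem_Vg.1 hv
        refine Commute.mul_right ?_ (cm _ _)
        exact Commute.map (tv_comm_tv e e1 e e1) r₁
      · change r₁ _ * (s * r₁ _ * s⁻¹) = r₁ _ * s * r₁ _ * s
        rw [si, mul_assoc (r₁ _) s, mul_assoc (r₁ _)]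
      · obtain ⟨ψ, -, e1⟩ := mem_Vg.1 hv
        have a1 : ∀ x, r₁ x ∈ 𝐍[r₁.range] := fun x => le_normalizer ⟨x, rfl⟩
        refine (mul_mem_cancel_left (a1 (tv u φ))).1 (e1 ▸ mul_mem (a1 _) ?_)
        exact centralizer_le_normalizer' _ (com (sw.le (conj_mem_cj s ⟨_, rfl⟩)))
    rintro _ ⟨x, rfl⟩
    exact this.ge (mem_top x)
  have sn : s ∈ 𝐍[cj(g, G0 r₁ t)] := by
    rw [normalizer_cj]
    exact conj_mem_cj g (h.cn t rfl)
  rw [G1, ← G0e]
  refine cj_eq_iff.1 (eq_of_le_of_card_ge ?_ (card_cj _ _).le).symm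
  rw [G0e] at L0 sn ⊢
  exact sup_le L0 (sw.ge.trans (cj_le_of_mem_normalizer L0 sn))

end Cfsg.Agent.StdL
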